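import Cfsg.Agent.Omega.KL.TwoS.Fr
import Cfsg.Agent.Omega.EK3.BaseE

/-!
# The level-free frame over `B`, `q = 2` (helper23 #25626): left case of box R

As helper566's `Bx` (#24770), without stage, `wc`, `nJ`, `par`; instead, with `O = O₂(C_G(ZJ))`:

* `jO` : `Ω₁(Z(J(O))) ≤ ZJ`;
* `mv` : for every `i` some elementary abelian subgroup of `O` of maximal order moves `W i`.

`Exch.lean` proves `par` (UNI over `B`) from this.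
-/

set_option autoImplicit false

namespace Cfsg.Agent.Omega.EDel.AOF

open Subgroup Cfsg
open Cfsg.Agent.ZN (zc zl o2)
open Cfsg.Agent.ZN.ChoiceSit (Syl)
open Cfsg.Agent.Omega.KL.TwoS (Mx)

universe u

variable {G : Type u} [Group G]

/-- **The level-free frame over `B`, `q = 2`.** -/
structure AO [Finite G] (B ZJ : Subgroup G) {ι : Type} (W : ι → Subgroup G) (z : ι → G) : Prop where
  c2 : IsCharacteristicTwoType G
  two : IsPGroup 2 B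
  syl : Syl B (centralizer (ZJ : Set G))
  zcB : zc B = ZJ
  zJ : ∀ i, z i ∈ ZJ
  gen : ZJ ≤ closure (Set.range z)
  ne : ∀ i, z i ≠ 1
  inj : Function.Injective z
  zW : ∀ i, z i ∈ W i
  WB : ∀ i, W i ≤ B
  cardW : ∀ i, Nat.card (W i) = 4
  sqW : ∀ i, ∀ x ∈ W i, x ^ 2 = 1
  WJ : ∀ i, ∀ x ∈ W i, x ∈ ZJ → x = 1 ∨ x = z i
  BW : ∀ i, ∀ b ∈ B, ∀ x ∈ W i, b * x * b⁻¹ * x⁻¹ = 1 ∨ b * x * b⁻¹ * x⁻¹ = z i
  rho : ∀ i, ∃ ρ : G, (∀ l, l ≠ i → ρ * z l = z l * ρ) ∧ ρ * z i * ρ⁻¹ ∈ W i ∧ ρ * z i * ρ⁻¹ ≠ z i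
  perm : ∀ g ∈ normalizer (B : Set G), ∀ i, ∃ j, g * z i * g⁻¹ = z j
  jO : ∀ x ∈ o2 (centralizer (ZJ : Set G)), x ^ 2 = 1 →
    (∀ A : Subgroup G, Mx (o2 (centralizer (ZJ : Set G))) A → ∀ a ∈ A, a * x = x * a) → x ∈ ZJ
  mv : ∀ i, ∃ A : Subgroup G, Mx (o2 (centralizer (ZJ : Set G))) A ∧ ¬ A ≤ centralizer (W i : Set G)
  three : ∀ i j : ι, ∃ l, l ≠ i ∧ l ≠ j

end Cfsg.Agent.Omega.EDel.AOF
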