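import Cfsg.Agent.Omega.NO3S.OneLine.LevSym
import Cfsg.Agent.Omega.NOThreeL.VF.Nat

/-!
# A minimal parabolic with an offender which acts on some `u ∈ V` as one transvection (helper23 #25626 (4))

`T` Sylow in the minimal parabolic `H`, `V = zl T H`, `ConclM T H`; `z ∈ Ω₁Z(T)` moved by `H`; an offender `A ≤ T` acts on
`u ∈ V` as `u ↦ u` or `u ↦ z u`, both occur. Then `V / D` is the natural `SL₂(2)`-module: `Out`.
-/

set_option autoImplicit false
set_option linter.unusedSectionVars false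

namespace Cfsg.Agent.Omega.EDel.AOF

open Subgroup Cfsg Cfsg.Agent.PLocal.ThompsonJ Cfsg.Agent.ZN.ChoiceBase
open Cfsg.Agent.ZN (zc zl o2)
open Cfsg.Agent.ZN.ChoiceSit (zc_le_zl)
open Cfsg.Agent.ZN.ChoiceSit
open Cfsg.Agent.Omega.SQ1 Cfsg.Agent.Omega.SQ1.FFOne Cfsg.Agent.Omega.SQ1.VOf Cfsg.Agent.Omega.SQ1.FFSym
open Cfsg.Agent.Omega.FFThm (ActsSym ActsSL SymK SymKM NatKM ConclM OffM)
open Cfsg.Agent.Omega.FrameFF (cv)
open Cfsg.Agent.Omega.NatPair (ap)
open Cfsg.Agent.Lib.SL2Mat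
open Cfsg.Agent.MinSimple.MinParabolic (IsMinPar)

universe u

variable {G : Type u} [Group G]

/-- the natural `SL₂(2)`-module, elementwise -/
structure Out (T H : Subgroup G) (z u a : G) : Prop where
  p1 : ∀ x ∈ zl T H, a * x * a⁻¹ = x ∨ a * x * a⁻¹ = z * x
  p2 : ∀ b ∈ T, b ∈ o2 H ∨ b * a ∈ o2 H
  p3 : ∃ D : Subgroup G, D ≤ zc T ∧ H ≤ centralizer (D : Set G) ∧
    (∀ x ∈ zl T H, ∃ d ∈ D, x = d ∨ x = z * d ∨ x = u * d ∨ x = z * u * d) ∧
    ∃ r ∈ H, ∃ d ∈ D, r * z * r⁻¹ = u * d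

variable [Finite G] {T H A : Subgroup G} {k m : ℕ} {z u a : G}

/-- **no even-subset modules** -/
theorem no_sym (hM : MinH H T) (hk : 0 < k) (hm : 2 ≤ m) (N : SymKM T H (zl T H) (cv T H) k m) (hA : A ≤ T)
    (hoff : OffM (zl T H) A) (hz : z ∈ zc T) (hzH : ¬ H ≤ centralizer ({z} : Set G)) (hu : u ∈ zl T H)
    (hAu : ∀ b ∈ A, b * u * b⁻¹ = u ∨ b * u * b⁻¹ = z * u) (ha : a ∈ A) (hau : a * u * a⁻¹ = z * u) : False := by
  have h := NO3S.OneLine.sy_of hM N.toSymK hk (by omega) FFOf.cv_le FFOf.cv_norm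
  have hzT : ∀ t ∈ T, t * z = z * t := (mem_zc.1 hz).2.2
  have hzU : z ∈ zl T H := zc_le_zl T H hz
  have hzD : z ∉ cv T H := fun hD => hzH (N.gen _ (fun t ht => mem_centralizer_singleton_iff.2 (hzT t ht))
    fun g _ τ _ h2 => mem_centralizer_singleton_iff.2 (h2 z hD))
  obtain ⟨j, y, hjy⟩ : ∃ j y, N.e z j y ≠ 0 := by
    by_contra hcon
    push Not at hcon
    exact hzD ((N.ker z hzU).1 (funext fun j => funext fun y => hcon j y))
  obtain ⟨-, h2⟩ := N.offM A hA hoff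
  obtain ⟨τ, hτ, hτ'⟩ := h2 a ha
  have hzu : ∀ j x, N.e (z * u) j x = N.e z j x + N.e u j x := fun j x => by rw [N.mul z hzU u hu]; rfl
  have h3 : ∀ x, N.e z j (τ j x) + N.e u j (τ j x) = N.e u j x := fun x => by
    have := hτ u hu j x
    rw [hau, Equiv.Perm.one_apply, hzu] at this
    exact this
  have hy : τ j y ≠ y := by
    intro e
    have := h3 y
    rw [e] at this
    exact hjy (add_eq_right.1 this)
  obtain ⟨hyy, b, hb, hbA⟩ := hτ' j y hy
  have h4 : N.e u j (τ j y) ≠ N.e u j y := by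
    intro e
    have := h3 (τ j y)
    rw [hyy, e] at this
    exact hjy (add_eq_right.1 this)
  have hb1 : ∀ x, N.e (b * u * b⁻¹) j (Equiv.swap y (τ j y) x) = N.e u j x := fun x => by
    have := hbA u hu j x
    rw [Equiv.Perm.one_apply, Function.update_self] at this
    exact this
  have hbu : b * u * b⁻¹ = z * u := by
    rcases hAu b hb with e | e
    · exfalso
      have := hb1 y
      rw [e, Equiv.swap_apply_left] at this
      exact h4 this
    · exact e
  have hy0 : y ≠ 0 := by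
    rintro rfl
    exact hy (N.fix0 a (hA ha) _ _ hτ j)
  obtain ⟨w, hw0, hwy, hwt⟩ : ∃ w : Fin (2 ^ m + 1), w ≠ 0 ∧ w ≠ y ∧ w ≠ τ j y := by
    classical
    by_contra hcon
    push Not at hcon
    have h1 : (Finset.univ : Finset (Fin (2 ^ m + 1))) ⊆ {0, y, τ j y} := by
      intro w _
      by_cases hw0 : w = 0
      · simp [hw0]
      by_cases hwx : w = y
      · simp [hwx]
      · have := hcon w hw0 hwx
        simp [this]
    have h2 := Finset.card_le_card h1
    rw [Finset.card_univ, Fintype.card_fin] at h2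
    have h3 : ({0, y, τ j y} : Finset (Fin (2 ^ m + 1))).card ≤ 3 := Finset.card_le_three
    have h4 : 2 ^ 2 ≤ 2 ^ m := Nat.pow_le_pow_right (by norm_num) hm
    omega
  have hw : N.e z j w = 0 := by
    have := hb1 w
    rw [hbu, Equiv.swap_apply_of_ne_of_ne hwy hwt, hzu] at this
    exact add_eq_right.1 this
  obtain ⟨g, hg, π, hgd, hπ⟩ := NO3S.OneLine.cyc_T' hM N.toSymK h (by omega) j hy0 hw0
  have h5 := hgd.act z hzU j y
  rw [Equiv.Perm.one_apply, Pi.mulSingle_eq_same, hπ, hzT g hg, mul_inv_cancel_right, hw] at h5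
  exact hjy h5.symm

set_option maxHeartbeats 800000 in
/-- **the natural modules** -/
theorem out_nat {F : Type} [Field F] [CharP F 2] (hM : MinH H T) (hmp : IsMinPar T H) (hk : 0 < k)
    (N : NatKM F T H (zl T H) (cv T H) k) (hA : A ≤ T)
    (hoff : OffM (zl T H) A) (hz : z ∈ zc T) (hzH : ¬ H ≤ centralizer ({z} : Set G)) (hu : u ∈ zl T H)
    (hAu : ∀ b ∈ A, b * u * b⁻¹ = u ∨ b * u * b⁻¹ = z * u) (ha : a ∈ A) (hau : a * u * a⁻¹ = z * u) :
    Out T H z u a := by
  have : Fact (Nat.Prime 2) := ⟨Nat.prime_two⟩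
  have hTH := hM.syl.1
  have hzT : ∀ t ∈ T, t * z = z * t := (mem_zc.1 hz).2.2
  have hzU : z ∈ zl T H := zc_le_zl T H hz
  have hzD : z ∉ cv T H := fun hD => hzH (N.gen _ (fun t ht => mem_centralizer_singleton_iff.2 (hzT t ht))
    fun g _ τ h2 => mem_centralizer_singleton_iff.2 (h2.2 z hD))
  have hUc : ∀ x ∈ zl T H, ∀ y ∈ zl T H, x * y = y * x := MinH.comm hM
  have hUs : ∀ x ∈ zl T H, x * x = 1 := fun x hx => by rw [← pow_two]; exact MinH.sq hM x hx
  have hUn : ∀ g ∈ H, ∀ x ∈ zl T H, g * x * g⁻¹ ∈ zl T H := fun g hg x hx => zl_norm g hg x hx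
  have hDU : cv T H ≤ zl T H := FFOf.cv_le
  have hDn : ∀ g ∈ H, ∀ x ∈ cv T H, g * x * g⁻¹ ∈ cv T H := FFOf.cv_norm
  have hz1 : ∀ j, N.e z j 1 = 0 := by
    intro j
    obtain ⟨t, ht, h1, -⟩ := N.unip fun _ => 1
    have h2 := h1 z hzU j
    rw [hzT t ht, mul_inv_cancel_right] at h2
    have h3 := congrFun h2 0
    rw [NOThreeL.VF.Nat.ap_up_0, one_mul] at h3
    exact left_eq_add.1 h3
  have hzne : ∀ j, N.e z j ≠ 0 := by
    intro j h0
    refine hzD ((N.ker z hzU).1 (funext fun l => ?_))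
    obtain ⟨t, ht, h2⟩ := N.trans j l
    have h3 := h2 z hzU
    rw [hzT t ht, mul_inv_cancel_right] at h3
    exact h3.2 h0
  have hz0 : ∀ j, N.e z j 0 ≠ 0 := fun j h0 => hzne j (NatPair.ext2 h0 (hz1 j))
  obtain ⟨I, hI1, hI2⟩ := N.offM A hA hoff
  obtain ⟨β, hβI, hβ⟩ := hI1 a ha
  have hzu : ∀ j i, N.e (z * u) j i = N.e z j i + N.e u j i := fun j i => by rw [N.mul z hzU u hu]; rfl
  have h1 : ∀ j, N.e z j 0 = β j * N.e u j 1 := by
    intro j
    have h2 := congrFun (hβ.1 u hu j) 0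
    rw [hau, NOThreeL.VF.Nat.ap_up_0, hzu, add_comm] at h2
    exact add_left_cancel h2
  have hu1 : ∀ j, N.e u j 1 ≠ 0 := fun j e => hz0 j (by rw [h1, e, mul_zero])
  have hβ0 : ∀ j, β j ≠ 0 := fun j e => hz0 j (by rw [h1, e, zero_mul])
  have hIall : ∀ j, j ∈ I := fun j => by
    by_contra hj
    exact hβ0 j (hβI j hj)
  have key : ∀ b : Fin k → F, (∀ j, b j * N.e u j 1 = 0) ∨ ∀ j, b j * N.e u j 1 = N.e z j 0 := by
    intro b
    obtain ⟨c, hc, hcA⟩ := hI2 b fun j hj => absurd (hIall j) hj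
    rcases hAu c hc with e | e
    · left
      intro j
      have h2 := congrFun (hcA.1 u hu j) 0
      rw [e, NOThreeL.VF.Nat.ap_up_0] at h2
      exact left_eq_add.1 h2
    · right
      intro j
      have h2 := congrFun (hcA.1 u hu j) 0
      rw [e, NOThreeL.VF.Nat.ap_up_0, hzu, add_comm] at h2
      exact (add_left_cancel h2).symm
  set o : Fin k := ⟨0, hk⟩ with ho
  have hone : ∀ j, j = o := by
    intro j
    by_contra hj
    rcases key (Function.update 0 o 1) with h2 | h2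
    · have := h2 o
      rw [Function.update_self, one_mul] at this
      exact hu1 o this
    · have := h2 j
      rw [Function.update_of_ne hj, Pi.zero_apply, zero_mul] at this
      exact hz0 j this.symm
  have hF : ∀ x : F, x = 0 ∨ x = 1 := by
    have h3 : N.e u o 1 = N.e z o 0 := by
      rcases key (fun _ => 1) with h2 | h2
      · exact absurd (by simpa using h2 o) (hu1 o)
      · simpa using h2 o
    intro x
    rcases key (fun _ => x) with h2 | h2
    · left
      exact (mul_eq_zero.1 (h2 o)).resolve_right (hu1 o)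
    · right
      have := h2 o
      rw [h3] at this
      exact (mul_eq_right₀ (hz0 o)).1 this
  have hez0 : N.e z o 0 = 1 := (hF _).resolve_left (hz0 o)
  have heu1 : N.e u o 1 = 1 := (hF _).resolve_left (hu1 o)
  have h11 : (1 : F) + 1 = 0 := CharTwo.add_self_eq_zero 1
  -- `e x = 0`
  have eext : ∀ x ∈ zl T H, N.e x o 0 = 0 → N.e x o 1 = 0 → x ∈ cv T H := by
    intro x hx h0 h1
    refine (N.ker x hx).1 (funext fun j => ?_)
    rw [hone j]
    exact NatPair.ext2 h0 h1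
  have edD : ∀ d ∈ cv T H, ∀ j i, N.e d j i = 0 := fun d hd j i => by
    rw [(N.ker d (hDU hd)).2 hd]; rfl
  have emul : ∀ x ∈ zl T H, ∀ y ∈ zl T H, ∀ j i, N.e (x * y) j i = N.e x j i + N.e y j i := fun x hx y hy j i => by
    rw [N.mul x hx y hy]; rfl
  have hline : ∀ y ∈ zl T H, N.e y o 1 = 0 → y ∈ cv T H ∨ z * y ∈ cv T H := by
    intro y hy h0
    rcases hF (N.e y o 0) with h2 | h2
    · exact Or.inl (eext y hy h2 h0)
    · right
      refine eext _ (mul_mem hzU hy) ?_ ?_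
      · rw [emul z hzU y hy, hez0, h2, h11]
      · rw [emul z hzU y hy, hz1, h0, add_zero]
  have hp3 : ∀ x ∈ zl T H, ∃ d ∈ cv T H, x = d ∨ x = z * d ∨ x = u * d ∨ x = z * u * d := by
    intro x hx
    rcases hF (N.e x o 1) with h2 | h2
    · rcases hline x hx h2 with h3 | h3
      · exact ⟨x, h3, Or.inl rfl⟩
      · exact ⟨z * x, h3, Or.inr (Or.inl (by rw [← mul_assoc, hUs z hzU, one_mul]))⟩
    · have h4 : N.e (u * x) o 1 = 0 := by rw [emul u hu x hx, heu1, h2, h11]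
      rcases hline _ (mul_mem hu hx) h4 with h3 | h3
      · exact ⟨u * x, h3, Or.inr (Or.inr (Or.inl (by rw [← mul_assoc, hUs u hu, one_mul])))⟩
      · refine ⟨z * (u * x), h3, Or.inr (Or.inr (Or.inr ?_))⟩
        calc x = (u * u) * x := by rw [hUs u hu, one_mul]
          _ = (u * (z * z) * u) * x := by rw [hUs z hzU, mul_one]
          _ = (u * z) * (z * (u * x)) := by simp only [mul_assoc]
          _ = z * u * (z * (u * x)) := by rw [hUc u hu z hzU]
  have haD : ∀ d ∈ cv T H, a * d = d * a := hβ.2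
  have haT : a ∈ T := hA ha
  have haz := hzT a haT
  -- `r`
  obtain ⟨r, hr, hrA⟩ := N.lift fun _ => mk (N.e u o 0) (-1) 1 0 (by ring)
  have her0 : N.e (r * z * r⁻¹) o 0 = N.e u o 0 := by
    have := congrFun (hrA.1 z hzU o) 0
    rw [this]
    change N.e u o 0 * N.e z o 0 + -1 * N.e z o 1 = _
    rw [hez0, hz1, mul_one, mul_zero, add_zero]
  have her1 : N.e (r * z * r⁻¹) o 1 = N.e u o 1 := by
    have := congrFun (hrA.1 z hzU o) 1
    rw [this]
    change 1 * N.e z o 0 + 0 * N.e z o 1 = _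
    rw [hez0, heu1, mul_one, zero_mul, add_zero]
  have hrzU := hUn r hr z hzU
  have hrD : u * (r * z * r⁻¹) ∈ cv T H := by
    refine eext _ (mul_mem hu hrzU) ?_ ?_
    · rw [emul u hu _ hrzU, her0]; exact CharTwo.add_self_eq_zero _
    · rw [emul u hu _ hrzU, her1]; exact CharTwo.add_self_eq_zero _
  -- the kernel
  have memD : ∀ x ∈ zl T H, ∀ y ∈ zl T H, N.e x = N.e y → ∃ d ∈ cv T H, x = y * d := by
    intro x hx y hy e
    refine ⟨y * x, (N.ker _ (mul_mem hy hx)).1 ?_, by rw [← mul_assoc, hUs y hy, one_mul]⟩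
    rw [N.mul y hy x hx, e]
    funext j i
    exact CharTwo.add_self_eq_zero _
  have eD : ∀ x ∈ zl T H, ∀ d ∈ cv T H, N.e (x * d) = N.e x := by
    intro x hx d hd
    rw [N.mul x hx d (hDU hd), (N.ker d (hDU hd)).2 hd, add_zero]
  have estab : ∀ x ∈ zl T H, ∀ y ∈ zl T H, N.e x = N.e y → ∀ g ∈ H, N.e (g * x * g⁻¹) = N.e (g * y * g⁻¹) := by
    intro x hx y hy e g hg
    obtain ⟨d, hd, rfl⟩ := memD x hx y hy e
    have e1 : g * (y * d) * g⁻¹ = (g * y * g⁻¹) * (g * d * g⁻¹) := by group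
    rw [e1, eD _ (hUn g hg y hy) _ (hDn g hg d hd)]
  let K : Subgroup G :=
    { carrier := {g | g ∈ H ∧ ∀ x ∈ zl T H, N.e (g * x * g⁻¹) = N.e x}
      mul_mem' := by
        rintro g g' ⟨hg, h1⟩ ⟨hg', h2⟩
        refine ⟨mul_mem hg hg', fun x hx => ?_⟩
        have e : g * g' * x * (g * g')⁻¹ = g * (g' * x * g'⁻¹) * g⁻¹ := by group
        rw [e, h1 _ (hUn g' hg' x hx), h2 x hx]
      one_mem' := ⟨one_mem _, fun x _ => by rw [one_mul, inv_one, mul_one]⟩
      inv_mem' := by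
        rintro g ⟨hg, h1⟩
        refine ⟨inv_mem hg, fun x hx => ?_⟩
        have h2 := h1 _ (hUn g⁻¹ (inv_mem hg) x hx)
        rw [← h2]
        congr 1
        group }
  have hKn : H ≤ normalizer (K : Set G) := by
    intro g hg
    refine mem_norm_of fun c hc => ?_
    obtain ⟨hc1, hc2⟩ := hc
    refine ⟨mul_mem (mul_mem hg hc1) (inv_mem hg), fun x hx => ?_⟩
    have h2 := hUn g⁻¹ (inv_mem hg) x hx
    have h3 := estab _ (hUn c hc1 _ h2) _ h2 (hc2 _ h2) g hg
    have e1 : g * (c * (g⁻¹ * x * g⁻¹⁻¹) * c⁻¹) * g⁻¹ = g * c * g⁻¹ * x * (g * c * g⁻¹)⁻¹ := by group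
    have e2 : g * (g⁻¹ * x * g⁻¹⁻¹) * g⁻¹ = x := by group
    rw [e1, e2] at h3
    exact h3
  have hKT : T ⊓ K ≤ o2 H := by
    rcases hmp.sup_eq_or_inf_le hM.syl.2.1 (ZN.ChoiceSit.syl_not_dvd hM.syl) (fun g hg => hg.1 : K ≤ H) hKn
      with h2 | h2
    · exfalso
      let S : Subgroup G :=
        { carrier := {g | g ∈ H ∧ N.e (g * z * g⁻¹) = N.e z}
          mul_mem' := by
            rintro g g' ⟨hg, h1⟩ ⟨hg', h2⟩
            refine ⟨mul_mem hg hg', ?_⟩
            have e : g * g' * z * (g * g')⁻¹ = g * (g' * z * g'⁻¹) * g⁻¹ := by group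
            rw [e, estab _ (hUn g' hg' z hzU) z hzU h2 g hg, h1]
          one_mem' := ⟨one_mem _, by rw [one_mul, inv_one, mul_one]⟩
          inv_mem' := by
            rintro g ⟨hg, h1⟩
            refine ⟨inv_mem hg, ?_⟩
            have h2 := estab _ (hUn g hg z hzU) z hzU h1 g⁻¹ (inv_mem hg)
            have e : g⁻¹ * (g * z * g⁻¹) * g⁻¹⁻¹ = z := by group
            rw [e] at h2
            exact h2.symm }
      have h3 : H ≤ S := by
        rw [← h2]
        refine sup_le (fun g hg => ⟨hg.1, hg.2 z hzU⟩) fun t ht => ⟨hTH ht, ?_⟩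
        rw [hzT t ht, mul_inv_cancel_right]
      have h4 := (h3 hr).2
      have h5 := her1
      rw [h4, hz1, heu1] at h5
      exact zero_ne_one h5
    · exact h2
  have hfix : ∀ g ∈ T, N.e (g * u * g⁻¹) = N.e u → g ∈ o2 H := by
    intro g hg e
    refine hKT ⟨hg, hTH hg, fun x hx => ?_⟩
    have hgz : g * z * g⁻¹ = z := by rw [hzT g hg, mul_inv_cancel_right]
    obtain ⟨d, hd, h2⟩ := hp3 x hx
    have hd' := hDn g (hTH hg) d hd
    have hgu := hUn g (hTH hg) u hu
    rcases h2 with rfl | rfl | rfl | rfl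
    · rw [(N.ker _ (hDU hd')).2 hd', (N.ker _ (hDU hd)).2 hd]
    · have e1 : g * (z * d) * g⁻¹ = (g * z * g⁻¹) * (g * d * g⁻¹) := by group
      rw [e1, hgz, eD z hzU _ hd', eD z hzU _ hd]
    · have e1 : g * (u * d) * g⁻¹ = (g * u * g⁻¹) * (g * d * g⁻¹) := by group
      rw [e1, eD _ hgu _ hd', eD u hu _ hd, e]
    · have e1 : g * (z * u * d) * g⁻¹ = ((g * z * g⁻¹) * (g * u * g⁻¹)) * (g * d * g⁻¹) := by group
      rw [e1, hgz, eD _ (mul_mem hzU hgu) _ hd', eD _ (mul_mem hzU hu) _ hd, N.mul z hzU _ hgu, e,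
        N.mul z hzU u hu]
  have hp2 : ∀ b ∈ T, b ∈ o2 H ∨ b * a ∈ o2 H := by
    intro b hb
    have hbH := hTH hb
    have hbz : b * z * b⁻¹ = z := by rw [hzT b hb, mul_inv_cancel_right]
    have hbu := hUn b hbH u hu
    obtain ⟨d, hd, h2⟩ := hp3 _ hbu
    have hnl : ∀ w ∈ zl T H, N.e w = 0 ∨ N.e w = N.e z → b * u * b⁻¹ ≠ w := by
      intro w hw hw2 e
      have h3 : u = b⁻¹ * w * b⁻¹⁻¹ := by rw [← e]; group
      have h4 : N.e u o 1 = 0 := by
        rcases hw2 with h5 | h5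
        · have h6 := (N.ker w hw).1 h5
          have h7 := hDn b⁻¹ (inv_mem hbH) w h6
          rw [← h3] at h7
          exact edD u h7 o 1
        · have h6 := estab w hw z hzU h5 b⁻¹ (inv_mem hbH)
          have h7 : b⁻¹ * z * b⁻¹⁻¹ = z := by
            have := hzT b⁻¹ (inv_mem hb)
            rw [this, mul_inv_cancel_right]
          rw [← h3, h7] at h6
          rw [h6]
          exact hz1 o
      exact hu1 o h4
    rcases h2 with h2 | h2 | h2 | h2
    · exact absurd h2 (hnl d (hDU hd) (Or.inl ((N.ker d (hDU hd)).2 hd)))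
    · exact absurd h2 (hnl (z * d) (mul_mem hzU (hDU hd)) (Or.inr (eD z hzU d hd)))
    · left
      exact hfix b hb (by rw [h2, eD u hu d hd])
    · right
      refine hfix _ (mul_mem hb haT) ?_
      have e1 : b * a * u * (b * a)⁻¹ = b * (a * u * a⁻¹) * b⁻¹ := by group
      have e2 : b * (z * u) * b⁻¹ = (b * z * b⁻¹) * (b * u * b⁻¹) := by group
      have e3 : z * (z * u * d) = u * d := by
        calc z * (z * u * d) = (z * z) * (u * d) := by simp only [mul_assoc]
          _ = u * d := by rw [hUs z hzU, one_mul]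
      rw [e1, hau, e2, hbz, h2, e3, eD u hu d hd]
  have hDz : cv T H ≤ zc T := by
    intro d hd
    have hdU := hDU hd
    refine mem_zc.2 ⟨o2_le_syl hM.syl (MinH.zl_le_o2 hM hdU), MinH.sq hM d hdU, fun b hb => ?_⟩
    rcases hp2 b hb with h2 | h2
    · exact MinH.o2_cent hM b h2 d hdU
    · have h3 := MinH.o2_cent hM _ h2 d hdU
      have h4 := haD d hd
      apply mul_right_cancel (b := a)
      calc b * d * a = b * a * d := by rw [mul_assoc, ← h4, mul_assoc]
        _ = d * b * a := by rw [h3, mul_assoc]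
  refine ⟨?_, hp2, cv T H, hDz, ?_, hp3, r, hr, u * (r * z * r⁻¹), hrD, by rw [← mul_assoc, hUs u hu, one_mul]⟩
  · intro x hx
    obtain ⟨d, hd, h2⟩ := hp3 x hx
    have hda : a * d * a⁻¹ = d := by rw [haD d hd, mul_inv_cancel_right]
    have hza : a * z * a⁻¹ = z := by rw [haz, mul_inv_cancel_right]
    rcases h2 with rfl | rfl | rfl | rfl
    · exact Or.inl hda
    · left
      calc a * (z * d) * a⁻¹ = (a * z * a⁻¹) * (a * d * a⁻¹) := by group
        _ = z * d := by rw [hza, hda]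
    · right
      calc a * (u * d) * a⁻¹ = (a * u * a⁻¹) * (a * d * a⁻¹) := by group
        _ = z * (u * d) := by rw [hau, hda, mul_assoc]
    · right
      calc a * (z * u * d) * a⁻¹ = (a * z * a⁻¹) * (a * u * a⁻¹) * (a * d * a⁻¹) := by group
        _ = z * (z * u * d) := by rw [hza, hau, hda]; simp only [mul_assoc]
  · refine N.gen _ (fun t ht => mem_centralizer_iff.2 fun d hd => ((mem_zc.1 (hDz hd)).2.2 t ht).symm)
      fun g _ _ h2 => mem_centralizer_iff.2 fun d hd => (h2.2 d hd).symm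

/-- **`Out` from the FF theorem** -/
theorem out_of (hM : MinH H T) (hmp : IsMinPar T H) (hc : ConclM T H) (hA : A ≤ T) (hoff : OffM (zl T H) A)
    (hz : z ∈ zc T) (hzH : ¬ H ≤ centralizer ({z} : Set G)) (hu : u ∈ zl T H)
    (hAu : ∀ b ∈ A, b * u * b⁻¹ = u ∨ b * u * b⁻¹ = z * u) (ha : a ∈ A) (hau : a * u * a⁻¹ = z * u) :
    Out T H z u a := by
  rcases hc with ⟨F, _, _, _, k, hk, ⟨N⟩⟩ | ⟨k, m, hk, hm, ⟨N⟩⟩
  · exact out_nat hM hmp hk N hA hoff hz hzH hu hAu ha hau
  · exact (no_sym hM hk hm N hA hoff hz hzH hu hAu ha hau).elim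

end Cfsg.Agent.Omega.EDel.AOF
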