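import Cfsg.Agent.Omega.EDel.Bx.AODef

/-!
# The exchange argument (helper23 #25626 (2))

`O` a 2-group, `Q = C_O(U)`-like, `E ≤ O` elementary abelian and `R`-invariant, `U, V ≤ E`, `U` `R`-invariant and
centralised by `Q`; `Q` acts on `V` by `x ↦ x` or `x ↦ z x`, `z ∈ U`. If an `A` of maximal order in `O` is exact on `U`
and moves a conjugate of `z`, then `Q` centralises `V` : `exch`, `exch'`.
-/

set_option autoImplicit false
set_option linter.unusedSectionVars false

namespace Cfsg.Agent.Omega.EDel.AOF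

open Subgroup Cfsg
open Cfsg.Agent.ZN (zc zl o2)
open Cfsg.Agent.ZN.ChoiceSit (Syl)
open Cfsg.Agent.Omega.KL.TwoS (Mx)

universe u

variable {G : Type u} [Group G] [Finite G] {O Q R E U V A : Subgroup G} {z : G}

/-- the data of one parabolic `R` -/
structure Ex (O Q R E U : Subgroup G) : Prop where
  EO : E ≤ O
  Esq : ∀ x ∈ E, x ^ 2 = 1
  RE : R ≤ normalizer (E : Set G)
  UE : U ≤ E
  RU : R ≤ normalizer (U : Set G)
  OR : O ≤ R
  nQ : R ≤ normalizer (Q : Set G)
  QU : ∀ g ∈ Q, ∀ x ∈ U, g * x = x * g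
  OQ : ∀ g ∈ O, (∀ x ∈ U, g * x = x * g) → g ∈ Q

namespace Ex

variable (h : Ex O Q R E U)
include h

theorem ecomm {x y : G} (hx : x ∈ E) (hy : y ∈ E) : x * y = y * x := by
  have h1 := h.Esq _ (mul_mem hx hy)
  have h2 := h.Esq _ hx
  have h3 := h.Esq _ hy
  rw [pow_two] at h1 h2 h3
  have h4 : x⁻¹ = x := inv_eq_of_mul_eq_one_left h2
  have h5 : y⁻¹ = y := inv_eq_of_mul_eq_one_left h3
  have h6 : (x * y)⁻¹ = x * y := inv_eq_of_mul_eq_one_left h1
  rw [mul_inv_rev, h4, h5] at h6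
  exact h6.symm

theorem conj_mem {r x : G} (hr : r ∈ R) (hx : x ∈ E) : r * x * r⁻¹ ∈ E :=
  (mem_normalizer_iff.1 (h.RE hr) _).1 hx

theorem bw (BW : ∀ g ∈ Q, ∀ x ∈ V, g * x * g⁻¹ = x ∨ g * x * g⁻¹ = z * x) {s g x : G} (hs : s ∈ R) (hg : g ∈ Q)
    (hx : x ∈ V) : g * (s * x * s⁻¹) * g⁻¹ = s * x * s⁻¹ ∨
      g * (s * x * s⁻¹) * g⁻¹ = (s * z * s⁻¹) * (s * x * s⁻¹) := by
  have h1 : s⁻¹ * g * s ∈ Q := by
    have := (mem_normalizer_iff.1 (h.nQ (inv_mem hs)) g).1 hg
    rwa [inv_inv] at this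
  have e : g * (s * x * s⁻¹) * g⁻¹ = s * ((s⁻¹ * g * s) * x * (s⁻¹ * g * s)⁻¹) * s⁻¹ := by group
  rcases BW _ h1 x hx with h2 | h2
  · left; rw [e, h2]
  · right; rw [e, h2]; group

set_option maxHeartbeats 800000 in
/-- **exchange** -/
theorem exch (hV : V ≤ E) (hzU : z ∈ U) (hz1 : z ≠ 1)
    (BW : ∀ g ∈ Q, ∀ x ∈ V, g * x * g⁻¹ = x ∨ g * x * g⁻¹ = z * x) (hA : Mx O A)
    (hex : (centralizer (U : Set G)).relIndex A ≤ (centralizer (A : Set G)).relIndex U) {r a : G} (hr : r ∈ R)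
    (ha : a ∈ A) (hne : a * (r * z * r⁻¹) * a⁻¹ ≠ r * z * r⁻¹) :
    ∀ g ∈ Q, ∀ x ∈ V, g * (r * x * r⁻¹) * g⁻¹ = r * x * r⁻¹ := by
  intro g hg x hx
  have haR : a ∈ R := h.OR (hA.le ha)
  set u := r * z * r⁻¹ with hu
  set y := r * x * r⁻¹ with hy
  set u' := a * u * a⁻¹ with hu'
  set y' := a * y * a⁻¹ with hy'
  have huU : u ∈ U := (mem_normalizer_iff.1 (h.RU hr) _).1 hzU
  have hyE : y ∈ E := h.conj_mem hr (hV hx)
  have hy'E : y' ∈ E := h.conj_mem haR hyE
  have hu1 : u ≠ 1 := fun e => hz1 (conj_eq_one_iff.1 e)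
  have hu'1 : u' ≠ 1 := fun e => hu1 (conj_eq_one_iff.1 e)
  have huu : u * u = 1 := by rw [← pow_two]; exact h.Esq _ (h.UE huU)
  -- `E₀`
  set E₀ := A ⊓ centralizer (U : Set G) ⊔ U with hE₀
  have hMx : Mx O E₀ := hA.sup (h.UE.trans h.EO) (fun x hx => h.Esq x (h.UE hx)) hex
  have hAU : ∀ c ∈ A ⊓ centralizer (U : Set G), ∀ x ∈ U, c * x = x * c := fun c hc x hx =>
    (mem_centralizer_iff.1 hc.2 x hx).symm
  have hdec : ∀ e ∈ E₀, ∃ c ∈ A ⊓ centralizer (U : Set G), ∃ x ∈ U, e = c * x := by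
    intro e he
    have hn : U ≤ normalizer ((A ⊓ centralizer (U : Set G) : Subgroup G) : Set G) :=
      le_trans (fun x hx => mem_centralizer_iff.2 fun c hc => hAU c hc x hx) (centralizer_le_normalizer _)
    obtain ⟨c, hc, x, hx, e1⟩ := Cfsg.Agent.Omega.OM.KTwo.exists_mul_of_mem_sup hn he
    exact ⟨c, hc, x, hx, e1⟩
  have hEQ : E₀ ≤ Q := by
    intro e he
    obtain ⟨c, hc, x, hx, rfl⟩ := hdec e he
    refine mul_mem (h.OQ c (hA.le hc.1) fun w hw => hAU c hc w hw) (h.OQ x (h.EO (h.UE hx)) fun w hw => ?_)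
    exact h.ecomm (h.UE hx) (h.UE hw)
  have hcomA : ∀ c ∈ A, a * c = c * a := fun c hc => (mem_centralizer_iff.1 (hA.comm hc) a ha)
  -- action on `y'`
  have hact : ∀ c ∈ A, c * y' * c⁻¹ = a * (c * y * c⁻¹) * a⁻¹ := by
    intro c hc
    have h1 := hcomA c hc
    have h2 : c⁻¹ * a = a * c⁻¹ := by
      calc c⁻¹ * a = c⁻¹ * (a * c) * c⁻¹ := by group
        _ = c⁻¹ * (c * a) * c⁻¹ := by rw [h1]
        _ = a * c⁻¹ := by group
    calc c * y' * c⁻¹ = (c * a) * y * (a⁻¹ * c⁻¹) := by rw [hy']; group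
      _ = (a * c) * y * (c * a)⁻¹ := by rw [h1]; group
      _ = (a * c) * y * (a * c)⁻¹ := by rw [h1]
      _ = a * (c * y * c⁻¹) * a⁻¹ := by group
  have hxy : ∀ x ∈ U, x * y = y * x := fun x hx => h.ecomm (h.UE hx) hyE
  have hxy' : ∀ x ∈ U, x * y' = y' * x := fun x hx => h.ecomm (h.UE hx) hy'E
  have hqu : ∀ e ∈ Q, e * u * e⁻¹ = u := fun e he => by rw [h.QU e he u huU]; group
  by_cases hcase : ∀ e ∈ E₀, e * y = y * e
  · -- `y ∈ E₀`
    have h1 : zpowers y ≤ E₀ := by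
      refine hMx.le_of_comm (zpowers_le.2 (h.EO hyE)) ?_ ?_
      · rintro _ ⟨k, rfl⟩
        change (y ^ k) ^ 2 = 1
        rw [← zpow_natCast, ← zpow_mul, mul_comm, zpow_mul, zpow_natCast, h.Esq y hyE, one_zpow]
      · rw [zpowers_le, mem_centralizer_iff]
        exact fun e he => hcase e he
    obtain ⟨c, hc, w, hw, hcw⟩ := hdec y (h1 (mem_zpowers y))
    have h2 : y' = y * (w⁻¹ * (a * w * a⁻¹)) := by
      rw [hy', hcw]
      calc a * (c * w) * a⁻¹ = (a * c) * w * a⁻¹ := by group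
        _ = (c * a) * w * a⁻¹ := by rw [hcomA c hc.1]
        _ = c * w * (w⁻¹ * (a * w * a⁻¹)) := by group
    have hd : w⁻¹ * (a * w * a⁻¹) ∈ U := mul_mem (inv_mem hw) ((mem_normalizer_iff.1 (h.RU haR) _).1 hw)
    have h3 : g * y' * g⁻¹ = (g * y * g⁻¹) * (w⁻¹ * (a * w * a⁻¹)) := by
      have h4 := h.QU g hg _ hd
      rw [h2]
      calc g * (y * (w⁻¹ * (a * w * a⁻¹))) * g⁻¹ = (g * y * g⁻¹) * (g * (w⁻¹ * (a * w * a⁻¹))) * g⁻¹ := by group
        _ = (g * y * g⁻¹) * ((w⁻¹ * (a * w * a⁻¹)) * g) * g⁻¹ := by rw [h4]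
        _ = _ := by group
    rcases h.bw BW hr hg hx with h5 | h5
    · exact h5
    exfalso
    rw [← hy, ← hu] at h5
    have h6 : g * y' * g⁻¹ = u * y' := by rw [h3, h5, mul_assoc, ← h2]
    have h7 := h.bw BW (mul_mem haR hr) hg hx
    have e1 : a * r * x * (a * r)⁻¹ = y' := by rw [hy', hy]; group
    have e2 : a * r * z * (a * r)⁻¹ = u' := by rw [hu', hu]; group
    rw [e1, e2] at h7
    rcases h7 with h7 | h7
    · exact hu1 (mul_right_cancel ((h6.symm.trans h7).trans (one_mul y').symm))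
    · exact hne (mul_right_cancel (h6.symm.trans h7)).symm
  · exfalso
    push Not at hcase
    obtain ⟨e, he, hey⟩ := hcase
    obtain ⟨c₀, hc₀, x₀, hx₀, hecx⟩ := hdec e he
    have hE₀y : ∀ b ∈ E₀, b * y ≠ y * b → b * y * b⁻¹ = u * y := by
      intro b hb hby
      rcases h.bw BW hr (hEQ hb) hx with h5 | h5
      · exact absurd (mul_inv_eq_iff_eq_mul.1 h5) hby
      · exact h5
    -- `C`
    set C := E₀ ⊓ centralizer ({y} : Set G) with hC
    have hrel : (centralizer ({y} : Set G)).relIndex E₀ = 2 := by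
      rw [relIndex_eq_two_iff]
      refine ⟨e, he, fun b hb => ?_⟩
      simp only [mem_centralizer_singleton_iff]
      by_cases hby : b * y = y * b
      · refine Or.inr ⟨hby, fun hbe => hey ?_⟩
        have h1 : b * (e * y) = b * (y * e) := by
          calc b * (e * y) = b * e * y := by group
            _ = y * (b * e) := hbe
            _ = (y * b) * e := by group
            _ = b * (y * e) := by rw [← hby]; group
        exact mul_left_cancel h1
      · refine Or.inl ⟨?_, hby⟩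
        have h1 := hE₀y b hb hby
        have h2 := hE₀y e he hey
        have h3 : (b * e) * y * (b * e)⁻¹ = y := by
          calc (b * e) * y * (b * e)⁻¹ = b * (e * y * e⁻¹) * b⁻¹ := by group
            _ = b * (u * y) * b⁻¹ := by rw [h2]
            _ = (b * u * b⁻¹) * (b * y * b⁻¹) := by group
            _ = u * (u * y) := by rw [hqu b (hEQ hb), h1]
            _ = y := by rw [← mul_assoc, huu, one_mul]
        exact mul_inv_eq_iff_eq_mul.1 h3
    have hcardE : Nat.card E₀ = Nat.card C * 2 := by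
      rw [← hrel]; exact Cfsg.Agent.Omega.TC.LemZ.card_eq E₀ (centralizer ({y} : Set G))
    have hyE₀ : y ∉ E₀ := fun h1 => hey (by
      have := mem_centralizer_iff.1 (hMx.comm he) y h1
      exact this.symm)
    have hCy : ∀ c ∈ C, c * y = y * c := fun c hc => mem_centralizer_singleton_iff.1 hc.2
    have hCy' : ∀ c ∈ C, c * y' = y' * c := by
      intro c hc
      obtain ⟨c₁, hc₁, x₁, hx₁, rfl⟩ := hdec c hc.1
      have h1 := hCy _ hc
      have h2 : c₁ * y = y * c₁ := by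
        have h3 : c₁ * y * x₁ = y * c₁ * x₁ := by
          calc c₁ * y * x₁ = c₁ * (x₁ * y) := by rw [hxy x₁ hx₁]; group
            _ = (c₁ * x₁) * y := by group
            _ = y * (c₁ * x₁) := h1
            _ = y * c₁ * x₁ := by group
        exact mul_right_cancel h3
      have h4 : c₁ * y' * c₁⁻¹ = y' := by
        rw [hact c₁ hc₁.1, h2, mul_inv_cancel_right]
      have h5 : c₁ * y' = y' * c₁ := mul_inv_eq_iff_eq_mul.1 h4
      calc c₁ * x₁ * y' = c₁ * (x₁ * y') := by group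
        _ = c₁ * y' * x₁ := by rw [hxy' x₁ hx₁]; group
        _ = y' * (c₁ * x₁) := by rw [h5]; group
    -- `M = C ⟨y⟩`
    have hysq : y * y = 1 := by rw [← pow_two]; exact h.Esq y hyE
    have hzp : ∀ w ∈ zpowers y, w = 1 ∨ w = y := by
      rintro _ ⟨k, rfl⟩
      change y ^ k = 1 ∨ y ^ k = y
      rcases Int.even_or_odd k with ⟨m, hm⟩ | ⟨m, hm⟩
      · left; rw [hm, ← two_mul, zpow_mul, zpow_ofNat, h.Esq y hyE, one_zpow]
      · right; rw [hm, zpow_add, zpow_mul, zpow_ofNat, h.Esq y hyE, one_zpow, one_mul, zpow_one]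
    have hMdec : ∀ w ∈ C ⊔ zpowers y, ∃ c ∈ C, w = c ∨ w = c * y := by
      intro w hw
      have hCn : zpowers y ≤ normalizer (C : Set G) := by
        refine le_trans ?_ (centralizer_le_normalizer _)
        rw [zpowers_le, mem_centralizer_iff]
        exact fun c hc => hCy c hc
      obtain ⟨c, hc, v, hv, e0⟩ := Cfsg.Agent.Omega.OM.KTwo.exists_mul_of_mem_sup hCn hw
      rw [e0]
      refine ⟨c, hc, ?_⟩
      rcases hzp v hv with e | e
      · left; rw [e, mul_one]
      · right; rw [e]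
    have hCsq : ∀ c ∈ C, c ^ 2 = 1 := fun c hc => hMx.sq c hc.1
    have hMsq : ∀ w ∈ C ⊔ zpowers y, w ^ 2 = 1 := by
      intro w hw
      obtain ⟨c, hc, e | e⟩ := hMdec w hw
      · rw [e]; exact hCsq c hc
      · have h1 := hCsq c hc
        rw [pow_two] at h1
        rw [e, pow_two]
        calc c * y * (c * y) = c * (y * c) * y := by group
          _ = c * (c * y) * y := by rw [hCy c hc]
          _ = (c * c) * (y * y) := by group
          _ = 1 := by rw [h1, hysq, one_mul]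
    have hMO : C ⊔ zpowers y ≤ O := sup_le (inf_le_left.trans hMx.le) (zpowers_le.2 (h.EO hyE))
    have hyC : y ∉ C := fun h1 => hyE₀ h1.1
    have hMx' : Mx O (C ⊔ zpowers y) := by
      refine hMx.of_card hMO hMsq ?_
      rw [hcardE]
      have hlt : C < C ⊔ zpowers y := by
        refine lt_of_le_of_ne le_sup_left fun e1 => hyC ?_
        rw [e1]; exact mem_sup_right (mem_zpowers y)
      obtain ⟨k, hk⟩ := Subgroup.card_dvd_of_le hlt.le
      have hp : 0 < Nat.card C := Nat.card_pos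
      have hp' : 0 < Nat.card (C ⊔ zpowers y : Subgroup G) := Nat.card_pos
      have hk2 : 2 ≤ k := by
        rcases k with _ | _ | k
        · rw [hk] at hp'; simp at hp'
        · exfalso
          refine hlt.ne (Subgroup.eq_of_le_of_card_ge hlt.le ?_)
          rw [hk]; simp
        · omega
      rw [hk]
      exact Nat.mul_le_mul_left _ hk2
    have hy'M : y' ∈ C ⊔ zpowers y := by
      have h1 : zpowers y' ≤ C ⊔ zpowers y := by
        refine hMx'.le_of_comm (zpowers_le.2 (h.EO hy'E)) ?_ ?_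
        · rintro _ ⟨k, rfl⟩
          change (y' ^ k) ^ 2 = 1
          rw [← zpow_natCast, ← zpow_mul, mul_comm, zpow_mul, zpow_natCast, h.Esq y' hy'E, one_zpow]
        · rw [zpowers_le, mem_centralizer_iff]
          intro w hw
          obtain ⟨c, hc, e1 | e1⟩ := hMdec w hw
          · rw [e1]; exact hCy' c hc
          · rw [e1]
            calc c * y * y' = c * (y' * y) := by rw [mul_assoc, h.ecomm hyE hy'E]
              _ = (c * y') * y := by group
              _ = y' * (c * y) := by rw [hCy' c hc]; group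
      exact h1 (mem_zpowers y')
    -- the action of `e` on `y'`
    have hey' : e * y' * e⁻¹ = u' * y' := by
      have hc₀y : c₀ * y * c₀⁻¹ = u * y := by
        have h1 := hE₀y e he hey
        rw [hecx] at h1
        calc c₀ * y * c₀⁻¹ = c₀ * (x₀ * y * x₀⁻¹) * c₀⁻¹ := by rw [hxy x₀ hx₀]; group
          _ = c₀ * x₀ * y * (c₀ * x₀)⁻¹ := by group
          _ = u * y := h1
      calc e * y' * e⁻¹ = c₀ * (x₀ * y' * x₀⁻¹) * c₀⁻¹ := by rw [hecx]; group
        _ = c₀ * y' * c₀⁻¹ := by rw [hxy' x₀ hx₀]; group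
        _ = a * (u * y) * a⁻¹ := by rw [hact c₀ hc₀.1, hc₀y]
        _ = u' * y' := by rw [hu', hy']; group
    have hec : ∀ c ∈ C, e * c * e⁻¹ = c := by
      intro c hc
      have := mem_centralizer_iff.1 (hMx.comm he) c hc.1
      rw [← this]; group
    obtain ⟨c, hc, e1 | e1⟩ := hMdec y' hy'M
    · rw [e1, hec c hc] at hey'
      exact hu'1 (mul_right_cancel (hey'.symm.trans (one_mul c).symm))
    · have h1 : e * y' * e⁻¹ = u * y' := by
        rw [e1]
        calc e * (c * y) * e⁻¹ = (e * c * e⁻¹) * (e * y * e⁻¹) := by group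
          _ = c * (u * y) := by rw [hec c hc, hE₀y e he hey]
          _ = (c * u) * y := by group
          _ = (u * c) * y := by rw [h.QU c (hEQ hc.1) u huU]
          _ = u * (c * y) := by group
      exact hne (mul_right_cancel (h1.symm.trans hey')).symm

/-- **exchange**: `Q` centralises `V` -/
theorem exch' (hV : V ≤ E) (hzU : z ∈ U) (hz1 : z ≠ 1)
    (BW : ∀ g ∈ Q, ∀ x ∈ V, g * x * g⁻¹ = x ∨ g * x * g⁻¹ = z * x) (hA : Mx O A)
    (hex : (centralizer (U : Set G)).relIndex A ≤ (centralizer (A : Set G)).relIndex U) {r a : G} (hr : r ∈ R)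
    (ha : a ∈ A) (hne : a * (r * z * r⁻¹) * a⁻¹ ≠ r * z * r⁻¹) : ∀ g ∈ Q, ∀ x ∈ V, g * x = x * g := by
  intro g hg x hx
  have h1 := h.exch hV hzU hz1 BW hA hex hr ha hne _ ((mem_normalizer_iff.1 (h.nQ hr) g).1 hg) x hx
  have h2 : r * (g * x * g⁻¹) * r⁻¹ = r * x * r⁻¹ := by
    calc r * (g * x * g⁻¹) * r⁻¹ = r * g * r⁻¹ * (r * x * r⁻¹) * (r * g * r⁻¹)⁻¹ := by group
      _ = r * x * r⁻¹ := h1
  have h3 : g * x * g⁻¹ = x := mul_left_cancel (mul_right_cancel h2)
  exact mul_inv_eq_iff_eq_mul.1 h3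

end Ex

end Cfsg.Agent.Omega.EDel.AOF
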