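import Cfsg.Agent.Omega.EDel.Bx.AOBase
import Cfsg.Agent.Omega.EDel.Bx.AONat
import Cfsg.Agent.Omega.EDel.Bx.Exch
import Cfsg.Agent.Omega.NOThreeL.StarEnd

/-!
# `par` (UNI over `B`) from the level-free frame `AO`, `q = 2` (helper23 #25626)

`AO.par` : every `B`-minimal `R ≤ C_G(z l)` of characteristic 2 which moves `ZJ` normalises one `W i` and centralises
the `z l`, `l ≠ i`.
-/

set_option autoImplicit false
set_option linter.unusedSectionVars false

namespace Cfsg.Agent.Omega.EDel.AOF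

open Subgroup Cfsg Cfsg.Agent.ZN.ChoiceBase
open Cfsg.Agent.ZN (zc zl o2)
open Cfsg.Agent.ZN.ChoiceSit (Syl o2_le_syl zc_le_zl syl_conj syl_not_dvd)
open Cfsg.Agent.Omega.KL.TwoS (Mx sup_of_relIndex_le)
open Cfsg.Agent.Omega.EK3 (CT mem_CT ET ZJ_le_ET CT_norm_ET Yc mem_Yc)
open Cfsg.Agent.Omega.SQ1.FFOne (MinH mem_norm_of)
open Cfsg.Agent.Omega.FFThm (OffM ElemM NoOverM ConclM relIndex_le_iff)
open Cfsg.Agent.MinSimple.MinParabolic (IsMinPar)

universe u

variable {G : Type u} [Group G]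

theorem minH_of [Finite G] {B R : Subgroup G} (hmp : IsMinPar B R) (hs : Syl B R)
    (hc : R ⊓ centralizer (o2 R : Set G) ≤ o2 R) : MinH R B := by
  obtain ⟨M, hM1, hM2⟩ := hmp.exists_max
  exact ⟨hs, ⟨M, fun h => hM1.not_ge h, fun X h1 h2 h3 => hM2 X h1 (lt_of_le_of_ne h2 h3)⟩, hc⟩

/-- Burnside: elements of `Z(B)` conjugate in `Y` are conjugate in `N_Y(B)` -/
theorem burnside [Finite G] {B Y : Subgroup G} (hs : Syl B Y) {x y g : G} (hxB : ∀ b ∈ B, b * x = x * b)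
    (hyB : ∀ b ∈ B, b * y = y * b) (hg : g ∈ Y) (e : g * x * g⁻¹ = y) : ∃ n ∈ Y, n ∈ normalizer (B : Set G) ∧ n * x * n⁻¹ = y := by
  have hC : B ≤ Y ⊓ centralizer ({y} : Set G) := le_inf hs.1 fun b hb => mem_centralizer_singleton_iff.2 (hyB b hb)
  have h1 : Syl B (Y ⊓ centralizer ({y} : Set G)) := ⟨hC, hs.2.1, fun R hR h2 h3 => hs.2.2 R (hR.trans inf_le_left) h2 h3⟩
  have hgY : cj g Y = Y := cj_eq_of_mem_normalizer (Subgroup.le_normalizer hg)
  have h2 : Syl (cj g B) (Y ⊓ centralizer ({y} : Set G)) := by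
    refine ⟨le_inf (by rw [← hgY]; exact cj_mono g hs.1) ?_, isPGroup_cj g hs.2.1, fun R hR h2 h3 => ?_⟩
    · rintro _ ⟨b, hb, rfl⟩
      refine mem_centralizer_singleton_iff.2 ?_
      change g * b * g⁻¹ * y = y * (g * b * g⁻¹)
      rw [← e]
      calc g * b * g⁻¹ * (g * x * g⁻¹) = g * (b * x) * g⁻¹ := by group
        _ = g * (x * b) * g⁻¹ := by rw [hxB b hb]
        _ = g * x * g⁻¹ * (g * b * g⁻¹) := by group
    · have h4 : cj g⁻¹ R ≤ Y := by
        have := cj_mono g⁻¹ ((hR.trans inf_le_left).trans hgY.ge)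
        rwa [cj_inv_cj] at this
      have h5 : B ≤ cj g⁻¹ R := by
        have := cj_mono g⁻¹ h3
        rwa [cj_inv_cj] at this
      have h6 := hs.2.2 _ h4 (isPGroup_cj g⁻¹ h2) h5
      rw [← h6, cj_cj_inv]
  obtain ⟨c, hc, h3⟩ := syl_conj h2 h1
  refine ⟨c * g, mul_mem hc.1 hg, ?_, ?_⟩
  · rw [mem_normalizer_iff_cj, ← cj_cj, h3]
  · have h4 : c * y = y * c := mem_centralizer_singleton_iff.1 hc.2
    calc c * g * x * (c * g)⁻¹ = c * (g * x * g⁻¹) * c⁻¹ := by group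
      _ = y := by rw [e, h4, mul_inv_cancel_right]

namespace AO

variable [Finite G] {B ZJ : Subgroup G} {ι : Type} {W : ι → Subgroup G} {z : ι → G} (h : AO B ZJ W z)
include h

/-- the data of one `R` -/
theorem ex_of {l : ι} {R : Subgroup G} (hl : R ≤ centralizer ({z l} : Set G)) (hmp : IsMinPar B R) (hM : MinH R B)
    (hm : ¬ R ≤ centralizer (ZJ : Set G)) :
    Ex (o2 (centralizer (ZJ : Set G))) (o2 R) R (ET ZJ z {l}) (zl B R) := by
  have hT : ({l} : Set ι).Nonempty := ⟨l, rfl⟩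
  have hOB : o2 (centralizer (ZJ : Set G)) ≤ B := o2_le_syl h.syl
  have hCT : R ≤ CT z {l} := fun x hx => mem_CT.2 fun l' hl' => by
    rw [Set.mem_singleton_iff] at hl'
    rw [hl']
    exact mem_centralizer_singleton_iff.1 (hl hx)
  have hRE : R ≤ normalizer (ET ZJ z {l} : Set G) := hCT.trans CT_norm_ET
  refine ⟨h.ET_le_O hT, fun x hx => (mem_zc.1 (h.ET_le_zc hT hx)).2.1, hRE, ?_, ?_, hOB.trans hM.syl.1,
    ZN.le_normalizer_o2 R, SQ1.VOf.MinH.o2_cent hM, ?_⟩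
  · refine SQ1.VOf.zl_le fun g hg x hx => (mem_normalizer_iff.1 (hRE hg) x).1 ?_
    rw [h.zcB] at hx
    exact ZJ_le_ET hx
  · exact fun g hg => mem_norm_of fun x hx => SQ1.VOf.zl_norm g hg x hx
  · intro g hg hgU
    have h1 : R ≤ normalizer ((R ⊓ centralizer (zl B R : Set G) : Subgroup G) : Set G) := by
      intro r hr
      refine mem_norm_of fun c hc => ⟨R.mul_mem (R.mul_mem hr hc.1) (R.inv_mem hr), mem_centralizer_iff.2 fun x hx => ?_⟩
      have h2 := mem_centralizer_iff.1 hc.2 _ (SQ1.VOf.zl_norm r⁻¹ (inv_mem hr) x hx)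
      calc x * (r * c * r⁻¹) = r * (r⁻¹ * x * r⁻¹⁻¹ * c) * r⁻¹ := by group
        _ = r * (c * (r⁻¹ * x * r⁻¹⁻¹)) * r⁻¹ := by rw [h2]
        _ = r * c * r⁻¹ * x := by group
    rcases hmp.sup_eq_or_inf_le hM.syl.2.1 (syl_not_dvd hM.syl) inf_le_left h1 with h2 | h2
    · exfalso
      apply hm
      rw [← h2]
      refine sup_le (inf_le_right.trans (centralizer_le ?_)) h.BD
      have : zc B ≤ zl B R := zc_le_zl B R
      rwa [h.zcB] at this
    · exact h2 ⟨hOB hg, hM.syl.1 (hOB hg), mem_centralizer_iff.2 fun x hx => (hgU x hx).symm⟩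

/-- some `A` is not in `O₂(R)` -/
theorem exists_A {l : ι} {R : Subgroup G} (hl : R ≤ centralizer ({z l} : Set G)) (hmp : IsMinPar B R) (hM : MinH R B)
    (hn : ¬ B ≤ o2 R) (hm : ¬ R ≤ centralizer (ZJ : Set G)) :
    ∃ A : Subgroup G, Mx (o2 (centralizer (ZJ : Set G))) A ∧ ¬ A ≤ o2 R := by
  have hx := h.ex_of hl hmp hM hm
  by_contra hcon
  push Not at hcon
  have h1 : zl B R ≤ ZJ := fun x hxU => h.jO x (hx.EO (hx.UE hxU)) (hx.Esq x (hx.UE hxU))
    fun A hA a ha => hx.QU a (hcon A hA ha) x hxU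
  have h2 : R ⊓ centralizer (zl B R : Set G) ≤ R := inf_le_left
  have h3 : R ≤ normalizer ((R ⊓ centralizer (zl B R : Set G) : Subgroup G) : Set G) := by
    intro r hr
    refine mem_norm_of fun c hc => ⟨R.mul_mem (R.mul_mem hr hc.1) (R.inv_mem hr), mem_centralizer_iff.2 fun x hx => ?_⟩
    have h2 := mem_centralizer_iff.1 hc.2 _ (SQ1.VOf.zl_norm r⁻¹ (inv_mem hr) x hx)
    calc x * (r * c * r⁻¹) = r * (r⁻¹ * x * r⁻¹⁻¹ * c) * r⁻¹ := by group
      _ = r * (c * (r⁻¹ * x * r⁻¹⁻¹)) * r⁻¹ := by rw [h2]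
      _ = r * c * r⁻¹ * x := by group
  rcases hmp.sup_eq_or_inf_le hM.syl.2.1 (syl_not_dvd hM.syl) h2 h3 with h4 | h4
  · apply hm
    rw [← h4]
    refine sup_le (inf_le_right.trans (centralizer_le ?_)) h.BD
    have : zc B ≤ zl B R := zc_le_zl B R
    rwa [h.zcB] at this
  · exact hn fun b hb => h4 ⟨hb, hM.syl.1 hb, mem_centralizer_iff.2 fun x hx => ((h.mem_J (h1 hx)).2.2 b hb).symm⟩

omit h in
/-- Thompson -/
theorem off_of {Q R E U A O : Subgroup G} (hx : Ex O Q R E U) (hA : Mx O A) (hne : ¬ A ≤ Q) : OffM U A where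
  sq := fun a ha => by rw [hA.sq a ha]; exact one_mem _
  comm := fun a ha b hb => by
    have h1 : b * a = a * b := mem_centralizer_iff.1 (hA.comm ha) b hb
    have e : a * b * a⁻¹ * b⁻¹ = 1 := by rw [← h1]; group
    rw [e]; exact one_mem _
  ne := fun h1 => hne fun a ha => hx.OQ a (hA.le ha) fun x hxU => (mem_centralizer_iff.1 (h1 ha) x hxU).symm
  le := relIndex_le_iff.2 (hA.thom (hx.UE.trans hx.EO) fun x hxU => hx.Esq x (hx.UE hxU))

omit h in
theorem ex_rel {Q R E U A O : Subgroup G} (hx : Ex O Q R E U) (hno : NoOverM U R) (hA : Mx O A) :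
    (centralizer (U : Set G)).relIndex A ≤ (centralizer (A : Set G)).relIndex U := by
  refine relIndex_le_iff.1 (hno A (hA.le.trans hx.OR) ⟨fun a ha => ?_, fun a ha b hb => ?_⟩)
  · rw [hA.sq a ha]; exact one_mem _
  · have h1 : b * a = a * b := mem_centralizer_iff.1 (hA.comm ha) b hb
    have e : a * b * a⁻¹ * b⁻¹ = 1 := by rw [← h1]; group
    rw [e]; exact one_mem _

/-- **`R` moves `z i`** -/
theorem moved {l : ι} {R : Subgroup G} (hl : R ≤ centralizer ({z l} : Set G)) (hmp : IsMinPar B R) (hM : MinH R B)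
    (hn : ¬ B ≤ o2 R) (hm : ¬ R ≤ centralizer (ZJ : Set G)) {i : ι} (hi : ¬ R ≤ centralizer ({z i} : Set G)) :
    (∀ g ∈ o2 R, ∀ x ∈ W i, g * x = x * g) ∧ ∃ v ∈ W i, ∃ u ∈ zl B R, ∃ a ∈ B, a * v * a⁻¹ = z i * v ∧
      a * u * a⁻¹ = z i * u ∧ Out B R (z i) u a := by
  have hx := h.ex_of hl hmp hM hm
  obtain ⟨A₀, hA₀, hA₀Q⟩ := h.exists_A hl hmp hM hn hm
  obtain ⟨hno, hcon⟩ := NOThreeL.StarEnd.stmtM G B R hM.syl hmp hM.self_cent
    ⟨A₀, hA₀.le.trans hx.OR, off_of hx hA₀ hA₀Q⟩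
  have hli : i ≠ l := by
    rintro rfl
    exact hi hl
  have hOB : o2 (centralizer (ZJ : Set G)) ≤ B := o2_le_syl h.syl
  have hQB : o2 R ≤ B := o2_le_syl hM.syl
  have hziU : z i ∈ zl B R := zc_le_zl B R (by rw [h.zcB]; exact h.zJ i)
  -- `W i ≤ E`
  have hzE : z i ∈ ET ZJ z {l} := ZJ_le_ET (h.zJ i)
  obtain ⟨ρ, hρ, hρW, hρz⟩ := h.rho i
  have hρC : ρ ∈ CT z {l} := mem_CT.2 fun l' hl' => by
    rw [Set.mem_singleton_iff] at hl'
    rw [hl']
    exact hρ l hli.symm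
  have hρE : ρ * z i * ρ⁻¹ ∈ ET ZJ z {l} := (mem_normalizer_iff.1 (CT_norm_ET hρC) _).1 hzE
  have hρ1 : ρ * z i * ρ⁻¹ ≠ 1 := fun e => h.ne i (conj_eq_one_iff.1 e)
  have hWE : W i ≤ ET ZJ z {l} := by
    intro x hxW
    by_cases hx1 : x = 1
    · rw [hx1]; exact one_mem _
    rcases h.eq_of_four' (h.cardW i) (h.sqW i) (h.zW i) (h.ne i) hρW hρ1 (Ne.symm hρz) hxW hx1 with e | e | e
    · rw [e]; exact hzE
    · rw [e]; exact hρE
    · rw [e]; exact mul_mem hzE hρE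
  -- a moved conjugate
  obtain ⟨r, hr, a₀, ha₀, hne⟩ : ∃ r ∈ R, ∃ a ∈ A₀, a * (r * z i * r⁻¹) * a⁻¹ ≠ r * z i * r⁻¹ := by
    by_contra hc
    push Not at hc
    let K : Subgroup G := R ⊓ centralizer ({x | ∃ r ∈ R, x = r * z i * r⁻¹} : Set G)
    have hK : R ≤ normalizer (K : Set G) := by
      intro g hg
      refine mem_norm_of fun c hcK => ⟨R.mul_mem (R.mul_mem hg hcK.1) (R.inv_mem hg), mem_centralizer_iff.2 ?_⟩
      rintro x ⟨r, hr, rfl⟩
      have h2 := mem_centralizer_iff.1 hcK.2 (g⁻¹ * r * z i * (g⁻¹ * r)⁻¹) ⟨g⁻¹ * r, mul_mem (inv_mem hg) hr, rfl⟩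
      calc r * z i * r⁻¹ * (g * c * g⁻¹) = g * (g⁻¹ * r * z i * (g⁻¹ * r)⁻¹ * c) * g⁻¹ := by group
        _ = g * (c * (g⁻¹ * r * z i * (g⁻¹ * r)⁻¹)) * g⁻¹ := by rw [h2]
        _ = g * c * g⁻¹ * (r * z i * r⁻¹) := by group
    rcases hmp.sup_eq_or_inf_le hM.syl.2.1 (syl_not_dvd hM.syl) (inf_le_left : K ≤ R) hK with h2 | h2
    · apply hi
      rw [← h2]
      refine sup_le (fun g hg => mem_centralizer_singleton_iff.2 ?_) (fun b hb => mem_centralizer_singleton_iff.2 ?_)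
      · have := mem_centralizer_iff.1 hg.2 (z i) ⟨1, one_mem _, by group⟩
        exact this.symm
      · exact (h.mem_J (h.zJ i)).2.2 b hb
    · apply hA₀Q
      intro a ha
      refine h2 ⟨hOB (hA₀.le ha), hx.OR (hA₀.le ha), mem_centralizer_iff.2 ?_⟩
      rintro x ⟨r, hr, rfl⟩
      exact (mul_inv_eq_iff_eq_mul.1 (hc r hr a ha)).symm
  have hBW' : ∀ g ∈ B, ∀ x ∈ W i, g * x * g⁻¹ = x ∨ g * x * g⁻¹ = z i * x := by
    intro g hg x hxW
    rcases h.BW i g hg x hxW with e | e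
    · exact Or.inl (mul_inv_eq_one.1 e)
    · exact Or.inr (mul_inv_eq_iff_eq_mul.1 e)
  have hQW : ∀ g ∈ o2 R, ∀ x ∈ W i, g * x = x * g :=
    hx.exch' hWE hziU (h.ne i) (fun g hg => hBW' g (hQB hg)) hA₀ (ex_rel hx hno hA₀) hr ha₀ hne
  refine ⟨hQW, ?_⟩
  -- the `A` which moves `W i`
  obtain ⟨A, hA, hAW⟩ := h.mv i
  have hAB : A ≤ B := hA.le.trans hOB
  have hAQ : ¬ A ≤ o2 R := fun h1 => hAW fun a ha => mem_centralizer_iff.2 fun x hxW => (hQW a (h1 ha) x hxW).symm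
  obtain ⟨a, ha, v, hv, hav⟩ : ∃ a ∈ A, ∃ v ∈ W i, a * v * a⁻¹ = z i * v := by
    by_contra hc
    push Not at hc
    apply hAW
    intro a ha
    refine mem_centralizer_iff.2 fun v hv => ?_
    rcases hBW' a (hAB ha) v hv with e | e
    · exact (mul_inv_eq_iff_eq_mul.1 e).symm
    · exact absurd e (hc a ha v hv)
  have hoff := off_of hx hA hAQ
  set N := zl B R ⊔ W i with hN
  have hNE : N ≤ ET ZJ z {l} := sup_le hx.UE hWE
  have hth := hA.thom (hNE.trans hx.EO) fun x hxN => hx.Esq x (hNE hxN)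
  have hNc : N ≤ centralizer (N : Set G) := fun x hxN => mem_centralizer_iff.2 fun y hy =>
    hx.ecomm (hNE hy) (hNE hxN)
  have hrel : (centralizer (N : Set G)).relIndex A ≤ (centralizer (zl B R : Set G)).relIndex A := by
    rw [← inf_relIndex_right (centralizer (zl B R : Set G)) A]
    refine relIndex_le_of_le_left ?_ ?_
    · rintro g ⟨hg1, hg2⟩
      have hgQ : g ∈ o2 R := hx.OQ g (hA.le hg2) fun x hxU => (mem_centralizer_iff.1 hg1 x hxU).symm
      have h5 : N ≤ centralizer ({g} : Set G) := sup_le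
        (fun x hxU => mem_centralizer_singleton_iff.2 (mem_centralizer_iff.1 hg1 x hxU))
        fun x hxW => mem_centralizer_singleton_iff.2 (hQW g hgQ x hxW).symm
      exact mem_centralizer_iff.2 fun x hxN => mem_centralizer_singleton_iff.1 (h5 hxN)
    · exact index_ne_zero_of_finite
  have hsup := sup_of_relIndex_le (X := N) (N := zl B R) (C := centralizer (A : Set G)) le_sup_left hNc
    ((hth.trans hrel).trans (ex_rel hx hno hA))
  obtain ⟨u, hu, c, hc, huc⟩ := OM.KTwo.exists_mul_of_mem_sup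
    (F := zl B R) (N := N ⊓ centralizer (A : Set G)) (fun x hxN => by
      refine mem_norm_of fun y hy => ?_
      have e : x * y * x⁻¹ = y := by
        rw [hx.ecomm (hNE hxN.1) (hx.UE hy), mul_inv_cancel_right]
      rw [e]; exact hy)
    (hsup (le_sup_right (a := zl B R) hv : v ∈ N))
  have hbu : ∀ b ∈ A, b * u * b⁻¹ = (b * v * b⁻¹) * c⁻¹ := by
    intro b hb
    have h5 : b * c = c * b := mem_centralizer_iff.1 hc.2 b hb
    have h6 : u = v * c⁻¹ := by rw [huc, mul_inv_cancel_right]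
    have h7 : c⁻¹ * b⁻¹ = b⁻¹ * c⁻¹ := by rw [← mul_inv_rev, ← mul_inv_rev, h5]
    calc b * u * b⁻¹ = b * v * (c⁻¹ * b⁻¹) := by rw [h6]; group
      _ = (b * v * b⁻¹) * c⁻¹ := by rw [h7]; group
  have hu' : u = v * c⁻¹ := by rw [huc, mul_inv_cancel_right]
  have hau : a * u * a⁻¹ = z i * u := by rw [hbu a ha, hav, mul_assoc, ← hu']
  have hAu : ∀ b ∈ A, b * u * b⁻¹ = u ∨ b * u * b⁻¹ = z i * u := by
    intro b hb
    rcases hBW' b (hAB hb) v hv with e | e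
    · left
      rw [hbu b hb, e, ← hu']
    · right
      rw [hbu b hb, e, mul_assoc, ← hu']
  exact ⟨v, hv, u, hu, a, hAB ha, hav, hau, out_of hM hmp hcon hAB hoff (by rw [h.zcB]; exact h.zJ i) hi hu hAu ha hau⟩

/-- **`R` moves exactly one `z i`** -/
theorem uniq {l : ι} {R : Subgroup G} (hl : R ≤ centralizer ({z l} : Set G)) (hmp : IsMinPar B R) (hM : MinH R B)
    (hn : ¬ B ≤ o2 R) (hm : ¬ R ≤ centralizer (ZJ : Set G)) {i j : ι} (hi : ¬ R ≤ centralizer ({z i} : Set G))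
    (hj : ¬ R ≤ centralizer ({z j} : Set G)) : i = j := by
  obtain ⟨-, v, hv, u, hu, a, ha, hav, hau, ho⟩ := h.moved hl hmp hM hn hm hi
  obtain ⟨hQj, v', hv', u', hu', a', ha', hav', hau', ho'⟩ := h.moved hl hmp hM hn hm hj
  have h1 : a' ∉ o2 R := fun h1 => by
    have h2 := hQj a' h1 v' hv'
    rw [h2, mul_inv_cancel_right] at hav'
    exact h.ne j (right_eq_mul.1 hav')
  have h2 := (ho.p2 a' ha').resolve_left h1
  have h3 : (a' * a) * u * (a' * a)⁻¹ = u := by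
    rw [SQ1.VOf.MinH.o2_cent hM _ h2 u hu, mul_inv_cancel_right]
  have h4 : (a' * a) * u * (a' * a)⁻¹ = z i * (a' * u * a'⁻¹) := by
    have h5 : a' * z i = z i * a' := (h.mem_J (h.zJ i)).2.2 a' ha'
    calc (a' * a) * u * (a' * a)⁻¹ = a' * (a * u * a⁻¹) * a'⁻¹ := by group
      _ = (a' * z i) * u * a'⁻¹ := by rw [hau]; group
      _ = z i * (a' * u * a'⁻¹) := by rw [h5]; group
  rw [h3] at h4
  rcases ho'.p1 u hu with e | e
  · rw [e] at h4
    exact absurd (right_eq_mul.1 h4) (h.ne i)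
  · rw [e, ← mul_assoc] at h4
    have h5 : z i * z j = 1 := right_eq_mul.1 h4
    have h6 : z i = (z j)⁻¹ := eq_inv_of_mul_eq_one_left h5
    have h7 : (z j)⁻¹ = z j := inv_eq_of_mul_eq_one_left (by rw [← pow_two]; exact h.z_sq j)
    exact h.inj (h6.trans h7)

set_option maxHeartbeats 800000 in
/-- **UNI over `B`** -/
theorem par : ∀ R : Subgroup G, (∃ l, R ≤ centralizer ({z l} : Set G)) → IsMinPar B R → Syl B R →
    R ⊓ centralizer (o2 R : Set G) ≤ o2 R → ¬ B ≤ o2 R → ¬ R ≤ centralizer (ZJ : Set G) →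
    ∃ i, R ≤ normalizer (W i : Set G) ∧ ∀ l, l ≠ i → R ≤ centralizer ({z l} : Set G) := by
  rintro R ⟨l, hl⟩ hmp hs hc hn hm
  have hM := minH_of hmp hs hc
  have hBR := hs.1
  obtain ⟨i, hi⟩ : ∃ i, ¬ R ≤ centralizer ({z i} : Set G) := by
    by_contra hcon
    push Not at hcon
    exact hm fun x hx => h.mem_D fun i => mem_centralizer_singleton_iff.1 (hcon i hx)
  have huni : ∀ l, l ≠ i → R ≤ centralizer ({z l} : Set G) := fun l' hl' => by
    by_contra hcon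
    exact hl' (h.uniq hl hmp hM hn hm hcon hi)
  refine ⟨i, ?_, huni⟩
  have hx := h.ex_of hl hmp hM hm
  obtain ⟨hQW, v, hv, u, hu, a, ha, hav, hau, ho⟩ := h.moved hl hmp hM hn hm hi
  obtain ⟨D, hDz, hRD, hp3, r, hr, d, hd, hrz⟩ := ho.p3
  have haR := hBR ha
  have hRY : R ≤ Yc z i := fun x hx => mem_Yc.2 fun l' hl' => mem_centralizer_singleton_iff.1 (huni l' hl' hx)
  have hz2 : z i * z i = 1 := by rw [← pow_two]; exact h.z_sq i
  have hziB : ∀ b ∈ B, b * z i = z i * b := (h.mem_J (h.zJ i)).2.2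
  have hDR : ∀ d ∈ D, ∀ g ∈ R, g * d = d * g := fun d hd g hg => (mem_centralizer_iff.1 (hRD hg) d hd).symm
  -- Burnside
  have hburn : ∀ g ∈ Yc z i, ∀ d ∈ D, g * z i * g⁻¹ = z i * d → d = 1 := by
    intro g hg d hd e
    have hdJ : d ∈ ZJ := by rw [← h.zcB]; exact hDz hd
    have h1 : z i * d ∈ ZJ := mul_mem (h.zJ i) hdJ
    obtain ⟨n, hn1, hn2, hn3⟩ := burnside (h.syl_Y i) hziB
      (h.mem_J h1).2.2 hg e
    have h2 := h.norm_Y i ⟨hn1, hn2⟩
    rw [h.D_comm h2 i, mul_inv_cancel_right] at hn3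
    exact left_eq_mul.1 hn3
  have hu2 : u * u = 1 := by rw [← pow_two]; exact hx.Esq u (hx.UE hu)
  have hvE : v ∈ W i := hv
  have hv2 : v * v = 1 := by rw [← pow_two]; exact h.sqW i v hv
  -- `v u ∈ ZJ`
  have huB : u ∈ B := o2_le_syl hs (SQ1.VOf.MinH.zl_le_o2 hM hu)
  have hvQ : ∀ g ∈ o2 R, g * v = v * g := fun g hg => hQW g hg v hv
  have huQ : ∀ g ∈ o2 R, g * u = u * g := fun g hg => SQ1.VOf.MinH.o2_cent hM g hg u hu
  have huQ' : u ∈ o2 R := SQ1.VOf.MinH.zl_le_o2 hM hu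
  have huv : u * v = v * u := hvQ u huQ'
  have hzv : z i * v = v * z i := (hziB v (h.WB i hv)).symm
  have hzu' : z i * u = u * z i := (hziB u huB).symm
  have hy : v * u ∈ ZJ := by
    rw [← h.zcB]
    refine mem_zc.2 ⟨mul_mem (h.WB i hv) huB, ?_, fun b hb => ?_⟩
    · rw [pow_two]
      calc v * u * (v * u) = v * (u * v) * u := by group
        _ = (v * v) * (u * u) := by rw [huv]; group
        _ = 1 := by rw [hv2, hu2, one_mul]
    · have hq : ∀ g ∈ o2 R, g * (v * u) = v * u * g := fun g hg => by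
        calc g * (v * u) = (g * v) * u := by group
          _ = v * (g * u) := by rw [hvQ g hg]; group
          _ = v * u * g := by rw [huQ g hg]; group
      rcases ho.p2 b hb with h1 | h1
      · exact hq b h1
      · have h2 := hq _ h1
        have h3 : a * (v * u) = v * u * a := by
          apply mul_inv_eq_iff_eq_mul.1
          calc a * (v * u) * a⁻¹ = (a * v * a⁻¹) * (a * u * a⁻¹) := by group
            _ = (z i * v) * (z i * u) := by rw [hav, hau]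
            _ = v * (z i * z i) * u := by rw [hzv]; group
            _ = v * u := by rw [hz2, mul_one]
        apply mul_right_cancel (b := a)
        calc b * (v * u) * a = b * (v * u * a) := by group
          _ = b * a * (v * u) := by rw [← h3]; group
          _ = v * u * b * a := by rw [h2]; group
  have hZU : ZJ ≤ zl B R := by
    have := zc_le_zl B R
    rwa [h.zcB] at this
  have hvU : v ∈ zl B R := by
    have h1 := mul_mem (hZU hy) hu
    rwa [mul_assoc, hu2, mul_one] at h1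
  have hzv_ne : z i * v ≠ v := fun e => h.ne i (mul_eq_right.1 e)
  -- `v` is a conjugate of `z i` times an element of `D`
  have hDa : ∀ d ∈ D, a * d * a⁻¹ = d := fun d hd => by rw [hDR d hd a haR, mul_inv_cancel_right]
  have hrzu : u = r * z i * r⁻¹ * d⁻¹ := by rw [hrz, mul_inv_cancel_right]
  obtain ⟨s, hs', d', hd', hvs⟩ : ∃ s ∈ R, ∃ d' ∈ D, v = s * z i * s⁻¹ * d' := by
    obtain ⟨d', hd', h1⟩ := hp3 v hvU
    rcases h1 with h1 | h1 | h1 | h1
    · exfalso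
      rw [h1, hDa d' hd', ← h1] at hav
      exact hzv_ne hav.symm
    · exfalso
      apply hzv_ne
      rw [← hav, h1]
      calc a * (z i * d') * a⁻¹ = (a * z i * a⁻¹) * (a * d' * a⁻¹) := by group
        _ = z i * d' := by rw [hDa d' hd', hziB a ha, mul_inv_cancel_right]
    · refine ⟨r, hr, d⁻¹ * d', mul_mem (inv_mem hd) hd', ?_⟩
      rw [h1, hrzu]; group
    · refine ⟨a * r, mul_mem haR hr, d⁻¹ * d', mul_mem (inv_mem hd) hd', ?_⟩
      rw [h1, ← hau]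
      have h2 : a * d⁻¹ * a⁻¹ = d⁻¹ := hDa _ (inv_mem hd)
      calc a * u * a⁻¹ * d' = a * (r * z i * r⁻¹ * d⁻¹) * a⁻¹ * d' := by rw [← hrzu]
        _ = (a * r) * z i * (a * r)⁻¹ * (a * d⁻¹ * a⁻¹) * d' := by group
        _ = (a * r) * z i * (a * r)⁻¹ * (d⁻¹ * d') := by rw [h2]; group
  -- `v` is a conjugate of `z i` in `Y_i`
  obtain ⟨ρ, hρ, hρW, hρz⟩ := h.rho i
  have hρY : ρ ∈ Yc z i := mem_Yc.2 fun l' hl' => hρ l' hl'
  have hρ1 : ρ * z i * ρ⁻¹ ≠ 1 := fun e => h.ne i (conj_eq_one_iff.1 e)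
  have hv1 : v ≠ 1 := by
    rintro rfl
    apply h.ne i
    have := hav
    rw [mul_one, mul_inv_cancel, mul_one] at this
    exact this.symm
  have hvz : v ≠ z i := by
    intro e
    rw [e, hziB a ha, mul_inv_cancel_right] at hav
    exact h.ne i (right_eq_mul.1 hav)
  have hBY := h.B_le i
  obtain ⟨ρ', hρ'Y, hρ'⟩ : ∃ ρ' ∈ Yc z i, ρ' * z i * ρ'⁻¹ = v := by
    rcases h.eq_of_four' (h.cardW i) (h.sqW i) (h.zW i) (h.ne i) hv hv1 (Ne.symm hvz) hρW hρ1 with e | e | e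
    · exact absurd e hρz
    · exact ⟨ρ, hρY, e⟩
    · refine ⟨a * ρ, mul_mem (hBY ha) hρY, ?_⟩
      calc a * ρ * z i * (a * ρ)⁻¹ = a * (ρ * z i * ρ⁻¹) * a⁻¹ := by group
        _ = (a * z i * a⁻¹) * (a * v * a⁻¹) := by rw [e]; group
        _ = z i * (z i * v) := by rw [hziB a ha, mul_inv_cancel_right, hav]
        _ = v := by rw [← mul_assoc, hz2, one_mul]
  have hd'1 : d' = 1 := by
    refine hburn (s⁻¹ * ρ') (mul_mem (inv_mem (hRY hs')) hρ'Y) d' hd' ?_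
    calc s⁻¹ * ρ' * z i * (s⁻¹ * ρ')⁻¹ = s⁻¹ * (ρ' * z i * ρ'⁻¹) * s := by group
      _ = z i * (s⁻¹ * d' * s) := by rw [hρ', hvs]; group
      _ = z i * d' := by rw [hDR d' hd' s⁻¹ (inv_mem hs'), inv_mul_cancel_right]
  rw [hd'1, mul_one] at hvs
  have hzvs : z i * v = (a * s) * z i * (a * s)⁻¹ := by
    rw [← hav, hvs]; group
  -- all conjugates
  have hp3' : ∀ x ∈ zl B R, ∃ d ∈ D, x = d ∨ x = z i * d ∨ x = v * d ∨ x = z i * v * d := by
    intro x hx
    obtain ⟨d₀, hd₀, h0⟩ := hp3 v hvU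
    have h0' : v = u * d₀ ∨ v = z i * u * d₀ := by
      rcases h0 with h1 | h1 | h1 | h1
      · exfalso
        rw [h1, hDa d₀ hd₀, ← h1] at hav
        exact hzv_ne hav.symm
      · exfalso
        apply hzv_ne
        rw [← hav, h1]
        calc a * (z i * d₀) * a⁻¹ = (a * z i * a⁻¹) * (a * d₀ * a⁻¹) := by group
          _ = z i * d₀ := by rw [hDa d₀ hd₀, hziB a ha, mul_inv_cancel_right]
      · exact Or.inl h1
      · exact Or.inr h1
    obtain ⟨d₁, hd₁, h1⟩ := hp3 x hx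
    rcases h0' with h0 | h0
    · have hu3 : u = v * d₀⁻¹ := by rw [h0, mul_inv_cancel_right]
      rcases h1 with h1 | h1 | h1 | h1
      · exact ⟨d₁, hd₁, Or.inl h1⟩
      · exact ⟨d₁, hd₁, Or.inr (Or.inl h1)⟩
      · exact ⟨d₀⁻¹ * d₁, mul_mem (inv_mem hd₀) hd₁, Or.inr (Or.inr (Or.inl (by rw [h1, hu3]; group)))⟩
      · exact ⟨d₀⁻¹ * d₁, mul_mem (inv_mem hd₀) hd₁, Or.inr (Or.inr (Or.inr (by rw [h1, hu3]; group)))⟩
    · have hu3 : u = z i * v * d₀⁻¹ := by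
        rw [h0]
        calc u = (z i * z i) * u := by rw [hz2, one_mul]
          _ = z i * (z i * u * d₀) * d₀⁻¹ := by group
      rcases h1 with h1 | h1 | h1 | h1
      · exact ⟨d₁, hd₁, Or.inl h1⟩
      · exact ⟨d₁, hd₁, Or.inr (Or.inl h1)⟩
      · exact ⟨d₀⁻¹ * d₁, mul_mem (inv_mem hd₀) hd₁, Or.inr (Or.inr (Or.inr (by rw [h1, hu3]; group)))⟩
      · refine ⟨d₀⁻¹ * d₁, mul_mem (inv_mem hd₀) hd₁, Or.inr (Or.inr (Or.inl ?_))⟩
        rw [h1, hu3]
        calc z i * (z i * v * d₀⁻¹) * d₁ = (z i * z i) * (v * (d₀⁻¹ * d₁)) := by group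
          _ = v * (d₀⁻¹ * d₁) := by rw [hz2, one_mul]
  have hzD : z i ∉ D := fun hzD => hi fun g hg => mem_centralizer_singleton_iff.2 (hDR _ hzD g hg)
  have hall : ∀ t ∈ R, t * z i * t⁻¹ ∈ W i := by
    intro t ht
    obtain ⟨d₂, hd₂, h1⟩ := hp3' _ (SQ1.VOf.zl_norm t ht (z i) (hZU (h.zJ i)))
    have fin : ∀ s' ∈ R, t * z i * t⁻¹ = s' * z i * s'⁻¹ * d₂ → d₂ = 1 := by
      intro s' hs'' e
      refine hburn (s'⁻¹ * t) (mul_mem (inv_mem (hRY hs'')) (hRY ht)) d₂ hd₂ ?_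
      calc s'⁻¹ * t * z i * (s'⁻¹ * t)⁻¹ = s'⁻¹ * (t * z i * t⁻¹) * s' := by group
        _ = z i * (s'⁻¹ * d₂ * s') := by rw [e]; group
        _ = z i * d₂ := by rw [hDR d₂ hd₂ s'⁻¹ (inv_mem hs''), inv_mul_cancel_right]
    rcases h1 with h1 | h1 | h1 | h1
    · exfalso
      apply hzD
      have h2 : z i = d₂ := by
        calc z i = t⁻¹ * (t * z i * t⁻¹) * t := by group
          _ = t⁻¹ * d₂ * t := by rw [h1]
          _ = d₂ := by rw [hDR d₂ hd₂ t⁻¹ (inv_mem ht), inv_mul_cancel_right]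
      rw [h2]; exact hd₂
    · have h2 := fin 1 (one_mem _) (by rw [h1]; group)
      rw [h1, h2, mul_one]
      exact h.zW i
    · have h2 := fin s hs' (by rw [h1, hvs])
      rw [h1, h2, mul_one]
      exact hv
    · have h2 := fin (a * s) (mul_mem haR hs') (by rw [h1, hzvs])
      rw [h1, h2, mul_one]
      exact mul_mem (h.zW i) hv
  intro t ht
  refine mem_norm_of fun x hxW => ?_
  by_cases hx1 : x = 1
  · rw [hx1, mul_one, mul_inv_cancel]; exact one_mem _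
  have htz := hall t ht
  have htv : t * v * t⁻¹ ∈ W i := by
    have := hall (t * s) (mul_mem ht hs')
    rw [hvs]
    have e : t * (s * z i * s⁻¹) * t⁻¹ = t * s * z i * (t * s)⁻¹ := by group
    rwa [e]
  rcases h.eq_of_four' (h.cardW i) (h.sqW i) (h.zW i) (h.ne i) hv hv1 (Ne.symm hvz) hxW hx1 with e | e | e
  · rw [e]; exact htz
  · rw [e]; exact htv
  · rw [e]
    have := mul_mem htz htv
    have e1 : t * z i * t⁻¹ * (t * v * t⁻¹) = t * (z i * v) * t⁻¹ := by group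
    rwa [e1] at this

end AO

end Cfsg.Agent.Omega.EDel.AOF
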