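import Cfsg.Agent.Omega.EDel.Bx.OfAO
import Cfsg.Agent.Omega.EDel.Bx.AOPar

/-!
# THEOREM U over the level-free frame `AO`: no `par`

`AO.bx` : `Bx B B ZJ W z`; `AO.end_of` : `False` from `kg`, `nl`.
-/

set_option autoImplicit false

namespace Cfsg.Agent.Omega.EDel.AOF

open Subgroup Cfsg
open Cfsg.Agent.Omega.EK3 (CT Yc)

universe u

variable {G : Type u} [Group G] [Finite G] {B ZJ : Subgroup G} {ι : Type} {W : ι → Subgroup G} {z : ι → G}

theorem AO.bx (h : AO B ZJ W z) : BxF.Bx B B ZJ W z := h.toBx h.par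

/-- **the level-free frame is impossible** -/
theorem AO.end_of [Finite ι] [Nonempty ι] (h : AO B ZJ W z) (hML : ML.Final.MLK.{u, u})
    (hE : ML.Ex.Two.Ext.{u, u}) (kg : ∀ T : Set ι, T.Nonempty → IsKGroup (CT z T))
    (nl : ∀ R : Subgroup G, R ≠ ⊥ → IsPGroup 2 R → ¬ ∀ j, Yc z j ≤ normalizer (R : Set G)) : False :=
  h.false_of hML hE h.par kg nl

end Cfsg.Agent.Omega.EDel.AOF
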