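import Cfsg.Agent.Omega.EK3.BaseE
import Cfsg.Agent.Omega.EK3.Inst
import Cfsg.Agent.Omega.EK3.Rank
import Cfsg.Agent.Omega.LemmaK
import Cfsg.Agent.Omega.ThmC.TwoSyl

/-!
# The universal frame over `B`, `q = 2` (for THEOREM U #24127)

No Sylow subgroup of `G`, no `P`: `ZJ = Ω₁(Z(B)) = ⟨z i⟩`, `B` a Sylow 2-subgroup of `C_G(ZJ)`, four-groups `W i ∋ z i`, an element
`ρ` which centralises the `z l`, `l ≠ i`, and moves `z i` in `W i`; every `B`-minimal `R` in a `C_G(z l)` which moves `ZJ`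
normalises one `W i` and centralises the `z l`, `l ≠ i` (UNI+).

* `Bx` : the frame (port of helper474's / helper388's `EK3/{Base,BaseE,Frame,Inst}`);
* `Bx.o2_CT_le_B`, `Bx.char2_CT`, `Bx.eab_ET`, `Bx.ET_le_O`, `Bx.ET_le_o2` : the groups `C_T = C_G(z_l : l ∈ T)`;
* `Bx.syl_Y`, `Bx.norm_Y`, `Bx.stab`, `Bx.parY`, `Bx.genY` (QP), `Bx.Q_eq`, `Bx.W_le_N`, `Bx.conj`.
-/

set_option autoImplicit false
set_option linter.unusedSectionVars false

namespace Cfsg.Agent.Omega.EDel.BxF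

open Subgroup Cfsg Cfsg.Agent.ZN.ChoiceBase
open Cfsg.Agent.ZN (zc zl o2)
open Cfsg.Agent.ZN.ChoiceSit (Syl o2_le_syl)
open Cfsg.Agent.Omega.NO3S.EThree.ExactA (eab_mono eab_sup eab_iff)
open Cfsg.Agent.Omega.EK3 (CT mem_CT CT_mono ET ZJ_le_ET CT_norm_ET V_le_ET CT_compl_le CT_compl_le' Yc mem_Yc Nc
  Y_norm_V Y_norm_N)
open Cfsg.Agent.MinSimple.MinParabolic (IsMinPar le_of_forall)
open Cfsg.Agent.MinSimple.VModule (zc_le normalizer_le_normalizer_zc le_normalizer_o2 o2_isPGroup le_o2 o2_le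
  le_centralizer_zc)
open scoped Pointwise commutatorElement

universe u

variable {G : Type u} [Group G]

/-- **The universal frame over `B`, `q = 2`.** -/
structure Bx [Finite G] (B J ZJ : Subgroup G) {ι : Type} (W : ι → Subgroup G) (z : ι → G) : Prop where
  c2 : IsCharacteristicTwoType G
  two : IsPGroup 2 B
  syl : Syl B (centralizer (ZJ : Set G))
  zcB : zc B = ZJ
  zJ : ∀ i, z i ∈ ZJ
  gen : ZJ ≤ closure (Set.range z)
  ne : ∀ i, z i ≠ 1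
  inj : Function.Injective z
  zW : ∀ i, z i ∈ W i
  WB : ∀ i, W i ≤ B
  cardW : ∀ i, Nat.card (W i) = 4
  sqW : ∀ i, ∀ x ∈ W i, x ^ 2 = 1
  WJ : ∀ i, ∀ x ∈ W i, x ∈ ZJ → x = 1 ∨ x = z i
  BW : ∀ i, ∀ b ∈ B, ∀ x ∈ W i, b * x * b⁻¹ * x⁻¹ = 1 ∨ b * x * b⁻¹ * x⁻¹ = z i
  rho : ∀ i, ∃ ρ : G, (∀ l, l ≠ i → ρ * z l = z l * ρ) ∧ ρ * z i * ρ⁻¹ ∈ W i ∧ ρ * z i * ρ⁻¹ ≠ z i
  perm : ∀ g ∈ normalizer (B : Set G), ∀ i, ∃ j, g * z i * g⁻¹ = z j
  nJ : ∀ T : Subgroup G, IsPGroup 2 T → J ≤ T → T ≤ B → normalizer (T : Set G) ≤ normalizer (ZJ : Set G)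
  par : ∀ R : Subgroup G, (∃ l, R ≤ centralizer ({z l} : Set G)) → IsMinPar B R → Syl B R →
    R ⊓ centralizer (o2 R : Set G) ≤ o2 R → ¬ J ≤ o2 R → ¬ R ≤ centralizer (ZJ : Set G) →
    ∃ i, R ≤ normalizer (W i : Set G) ∧ ∀ l, l ≠ i → R ≤ centralizer ({z l} : Set G)
  three : ∀ i j : ι, ∃ l, l ≠ i ∧ l ≠ j

namespace Bx

variable [Finite G] {B J ZJ : Subgroup G} {ι : Type} {W : ι → Subgroup G} {z : ι → G} {T : Set ι}
  (h : Bx B J ZJ W z)
include h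

theorem mem_J {x : G} (hx : x ∈ ZJ) : x ∈ B ∧ x ^ 2 = 1 ∧ ∀ b ∈ B, b * x = x * b := by
  rw [← h.zcB, mem_zc] at hx
  exact hx

theorem ZJB : ZJ ≤ B := fun _ hx => (h.mem_J hx).1

theorem sqJ {x : G} (hx : x ∈ ZJ) : x ^ 2 = 1 := (h.mem_J hx).2.1

theorem z_sq (i : ι) : z i ^ 2 = 1 := h.sqJ (h.zJ i)

theorem BD : B ≤ centralizer (ZJ : Set G) := h.syl.1

theorem zz (i j : ι) : z i * z j = z j * z i := ((h.mem_J (h.zJ j)).2.2 _ (h.ZJB (h.zJ i)))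

theorem JJ {x y : G} (hx : x ∈ ZJ) (hy : y ∈ ZJ) : x * y = y * x := (h.mem_J hy).2.2 _ (h.ZJB hx)

theorem mem_D {x : G} (hx : ∀ i, x * z i = z i * x) : x ∈ centralizer (ZJ : Set G) := by
  have h1 : ZJ ≤ centralizer ({x} : Set G) := by
    refine h.gen.trans ((closure_le _).2 ?_)
    rintro _ ⟨i, rfl⟩
    exact mem_centralizer_singleton_iff.2 (hx i).symm
  rw [mem_centralizer_iff]
  exact fun y hy => mem_centralizer_singleton_iff.1 (h1 hy)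

theorem D_comm {x : G} (hx : x ∈ centralizer (ZJ : Set G)) (i : ι) : x * z i = z i * x :=
  (mem_centralizer_iff.1 hx _ (h.zJ i)).symm

theorem D_le_CT (T : Set ι) : centralizer (ZJ : Set G) ≤ CT z T := fun _ hx => mem_CT.2 fun l _ => h.D_comm hx l

theorem B_le_CT (T : Set ι) : B ≤ CT z T := h.BD.trans (h.D_le_CT T)

theorem norm_ZJ : normalizer (B : Set G) ≤ normalizer (ZJ : Set G) := by
  rw [← h.zcB]
  exact normalizer_le_normalizer_zc B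

/-- some `ρ` moves `z i` out of `ZJ` -/
theorem exists_rho (i : ι) : ∃ ρ : G, (∀ l, l ≠ i → ρ * z l = z l * ρ) ∧ ρ * z i * ρ⁻¹ ∈ W i ∧ ρ * z i * ρ⁻¹ ∉ ZJ := by
  obtain ⟨ρ, h1, h2, h3⟩ := h.rho i
  refine ⟨ρ, h1, h2, fun h4 => ?_⟩
  rcases h.WJ i _ h2 h4 with e | e
  · exact h.ne i (conj_eq_one_iff.1 e)
  · exact h3 e

/-- a nontrivial element of a four-group -/
theorem eq_of_four' {W' : Subgroup G} (h4 : Nat.card W' = 4) (hsq : ∀ x ∈ W', x ^ 2 = 1) {a b x : G} (ha : a ∈ W')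
    (ha1 : a ≠ 1) (hb : b ∈ W') (hb1 : b ≠ 1) (hab : a ≠ b) (hx : x ∈ W') (hx1 : x ≠ 1) : x = a ∨ x = b ∨ x = a * b :=
  NO3S.eq_of_card_four h4 hsq ha ha1 hb hb1 hab hx hx1

/-- `B` induces the transvection with centre `z j` on `W j` -/
theorem swap {j : ι} {x : G} (hx : x ∈ W j) (hx1 : x ≠ 1) (hxz : x ≠ z j) : ∃ b ∈ B, b * x * b⁻¹ = z j * x := by
  by_contra hcon
  push Not at hcon
  have h1 : x ∈ ZJ := by
    rw [← h.zcB, mem_zc]
    refine ⟨h.WB j hx, h.sqW j x hx, fun b hb => ?_⟩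
    rcases h.BW j b hb x hx with e | e
    · exact mul_inv_eq_iff_eq_mul.1 (mul_inv_eq_one.1 e)
    · exact absurd (mul_inv_eq_iff_eq_mul.1 e) (hcon b hb)
  rcases h.WJ j x hx h1 with e | e
  · exact hx1 e
  · exact hxz e

/-- a 2-group over `B`, in which `N(B)` centralises `ZJ`, is `B` (normaliser growth) -/
theorem le_of_norm {R : Subgroup G} (hR : IsPGroup 2 R) (hBR : B ≤ R)
    (hn : R ⊓ normalizer (B : Set G) ≤ centralizer (ZJ : Set G)) : R ≤ B := by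
  by_contra hne
  obtain ⟨n, hnR, hnB, hnN⟩ := ThmC.exists_normalizer hR hBR hne
  have h1 := h.syl.2.2 (B ⊔ zpowers n)
    (sup_le h.BD (zpowers_le.2 (hn ⟨hnR, hnN⟩))) (hR.to_le (sup_le hBR (zpowers_le.2 hnR))) le_sup_left
  exact hnB (h1 ▸ (le_sup_right : zpowers n ≤ B ⊔ zpowers n) (mem_zpowers n))

/-! ### `O₂(C_T)` -/

variable (T)

/-- **an element of `O₂(C_T)` which normalises `B` centralises `ZJ`** -/
theorem o2_CT_norm : o2 (CT z T) ⊓ normalizer (B : Set G) ≤ centralizer (ZJ : Set G) := by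
  rintro t ⟨ht, htB⟩
  have hle : o2 (CT z T) ≤ CT z T := o2_le _
  have hCn : CT z T ≤ normalizer (o2 (CT z T) : Set G) := le_normalizer_o2 _
  refine h.mem_D fun i => ?_
  by_cases hi : i ∈ T
  · exact mem_CT.1 (hle ht) i hi
  obtain ⟨j, hj⟩ := h.perm t htB i
  by_cases hji : j = i
  · rw [hji] at hj
    exact mul_inv_eq_iff_eq_mul.1 hj
  exfalso
  obtain ⟨ρ, hρ, hρW, hρz⟩ := h.rho i
  have hρC : ρ ∈ CT z T := mem_CT.2 fun l hl => hρ l fun e => hi (e ▸ hl)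
  set v := ρ * z i * ρ⁻¹ with hv
  -- `N = ⟨z i ^ C_T⟩`
  set N : Subgroup G := closure {x | ∃ c ∈ CT z T, x = c * z i * c⁻¹} with hN
  have hzN : z i ∈ N := subset_closure ⟨1, one_mem _, by group⟩
  have hCN : CT z T ≤ normalizer (N : Set G) := by
    have key : ∀ c ∈ CT z T, N ≤ cj c⁻¹ N := by
      intro c hc
      rw [hN, closure_le]
      rintro _ ⟨d, hd, rfl⟩
      rw [← hN]
      change d * z i * d⁻¹ ∈ cj c⁻¹ N
      rw [mem_cj, inv_inv]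
      exact subset_closure ⟨c * d, mul_mem hc hd, by group⟩
    intro c hc
    rw [mem_normalizer_iff_cj]
    apply le_antisymm
    · have h1 := cj_mono c (key c hc)
      rwa [cj_cj_inv] at h1
    · have h1 := key c⁻¹ (inv_mem hc)
      rwa [inv_inv] at h1
  have hM : CT z T ≤ normalizer ((⁅N, o2 (CT z T)⁆ : Subgroup G) : Set G) := by
    intro c hc
    rw [mem_normalizer_iff_cj]
    change (⁅N, o2 (CT z T)⁆).map _ = _
    rw [map_commutator]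
    congr 1
    · exact mem_normalizer_iff_cj.1 (hCN hc)
    · exact mem_normalizer_iff_cj.1 (hCn hc)
  -- `z i z j ∈ [N, X]`
  have h1 : z i * (z j)⁻¹ ∈ ⁅N, o2 (CT z T)⁆ := by
    have h2 : ⁅z i, t⁆ ∈ ⁅N, o2 (CT z T)⁆ := commutator_mem_commutator hzN ht
    have e : ⁅z i, t⁆ = z i * (z j)⁻¹ := by
      have h3 : t * (z i)⁻¹ * t⁻¹ = (z j)⁻¹ := by rw [← hj]; group
      rw [commutatorElement_def, mul_assoc (z i), mul_assoc (z i), h3]
    rwa [e] at h2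
  have h2 : v * (z j)⁻¹ ∈ ⁅N, o2 (CT z T)⁆ := by
    have h3 := (mem_normalizer_iff.1 (hM hρC) _).1 h1
    have h4 : ρ * z j * ρ⁻¹ = z j := by rw [hρ j hji, mul_inv_cancel_right]
    have e : ρ * (z i * (z j)⁻¹) * ρ⁻¹ = v * (z j)⁻¹ := by
      calc ρ * (z i * (z j)⁻¹) * ρ⁻¹ = (ρ * z i * ρ⁻¹) * (ρ * z j * ρ⁻¹)⁻¹ := by group
        _ = v * (z j)⁻¹ := by rw [h4, ← hv]
    rwa [e] at h3
  have hv1 : v ≠ 1 := fun e => h.ne i (conj_eq_one_iff.1 e)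
  have h3 : z i * v ∈ ⁅N, o2 (CT z T)⁆ := by
    have h4 := mul_mem h1 (inv_mem h2)
    have h5 : v⁻¹ = v := inv_eq_of_mul_eq_one_left (by rw [← pow_two]; exact h.sqW i v hρW)
    have e : z i * (z j)⁻¹ * (v * (z j)⁻¹)⁻¹ = z i * v := by
      calc z i * (z j)⁻¹ * (v * (z j)⁻¹)⁻¹ = z i * v⁻¹ := by group
        _ = z i * v := by rw [h5]
    rwa [e] at h4
  obtain ⟨b, hb, hbe⟩ := h.swap hρW hv1 hρz
  have h4 : z i ∈ ⁅N, o2 (CT z T)⁆ := by
    have hc : b * ρ ∈ CT z T := mul_mem (h.B_le_CT T hb) hρC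
    refine (mem_normalizer_iff.1 (hM hc) _).2 ?_
    have e : b * ρ * z i * (b * ρ)⁻¹ = z i * v := by
      calc b * ρ * z i * (b * ρ)⁻¹ = b * v * b⁻¹ := by rw [hv]; group
        _ = z i * v := hbe
    rwa [e]
  have h5 : N ≤ ⁅N, o2 (CT z T)⁆ := by
    rw [hN, closure_le]
    rintro _ ⟨c, hc, rfl⟩
    rw [← hN]
    exact (mem_normalizer_iff.1 (hM hc) _).1 h4
  have h6 : ⁅N, o2 (CT z T)⁆ ≤ o2 (CT z T) := by
    rw [commutator_le]
    intro x hx y hy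
    have hxC : x ∈ normalizer (o2 (CT z T) : Set G) := by
      have : N ≤ normalizer (o2 (CT z T) : Set G) := by
        rw [hN, closure_le]
        rintro _ ⟨c, hc, rfl⟩
        have hzC : z i ∈ CT z T := mem_CT.2 fun l _ => h.zz i l
        exact hCn (mul_mem (mul_mem hc hzC) (inv_mem hc))
      exact this hx
    rw [commutatorElement_def]
    exact mul_mem ((mem_normalizer_iff.1 hxC _).1 hy) (inv_mem hy)
  have : Fact (Nat.Prime 2) := ⟨Nat.prime_two⟩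
  have h7 := LemmaK.eq_bot_of_le_commutator (o2_isPGroup (CT z T)) (h5.trans h6) h5
  have h8 : z i ∈ (⊥ : Subgroup G) := h7 ▸ hzN
  exact h.ne i (mem_bot.1 h8)

/-- **`O₂(C_T) ≤ B`** -/
theorem o2_CT_le_B : o2 (CT z T) ≤ B := by
  have hB : B ≤ normalizer (o2 (CT z T) : Set G) := (h.B_le_CT T).trans (le_normalizer_o2 _)
  have h1 : IsPGroup 2 (B ⊔ o2 (CT z T) : Subgroup G) :=
    IsPGroup.to_sup_of_normal_right' h.two (o2_isPGroup _) hB
  refine le_sup_right.trans (h.le_of_norm h1 le_sup_left ?_)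
  rintro x ⟨hx, hxN⟩
  obtain ⟨b, hb, y, hy, rfl⟩ : ∃ b ∈ B, ∃ y ∈ o2 (CT z T), b * y = x := by
    have h3 : x ∈ ((B ⊔ o2 (CT z T) : Subgroup G) : Set G) := hx
    rw [coe_mul_of_left_le_normalizer_right _ _ hB] at h3
    exact h3
  have hyN : y ∈ normalizer (B : Set G) := by
    have := mul_mem (inv_mem (Subgroup.le_normalizer hb)) hxN
    rwa [inv_mul_cancel_left] at this
  exact mul_mem (h.BD hb) (h.o2_CT_norm T ⟨hy, hyN⟩)

/-- **`O₂(C_T)` centralises `ZJ`** -/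
theorem o2_CT_le_cent : o2 (CT z T) ≤ centralizer (ZJ : Set G) := (h.o2_CT_le_B T).trans h.BD

/-- `O₂(C_T) ≤ O₂(X)` for `C(ZJ) ≤ X ≤ C_T` -/
theorem o2_CT_le_of_le {X : Subgroup G} (h1 : centralizer (ZJ : Set G) ≤ X) (h2 : X ≤ CT z T) :
    o2 (CT z T) ≤ o2 X :=
  MinSimple.Basic.o2_normal_le_o2 ((h.o2_CT_le_cent T).trans h1) h2

theorem o2_CT_le_o2 : o2 (CT z T) ≤ o2 (centralizer (ZJ : Set G)) :=
  h.o2_CT_le_of_le T le_rfl (h.D_le_CT T)

variable {T}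

/-- `C_T` has characteristic 2 -/
theorem char2_CT (hT : T.Nonempty) : CT z T ⊓ centralizer (o2 (CT z T) : Set G) ≤ o2 (CT z T) := by
  have e : CT z T = centralizer ((closure (z '' T) : Subgroup G) : Set G) := (centralizer_closure _).symm
  have hle : closure (z '' T) ≤ ZJ := by
    rw [closure_le]
    rintro _ ⟨l, -, rfl⟩
    exact h.zJ l
  rw [e]
  refine NOne.LemmaT.char2_centralizer h.c2 (h.two.to_le (hle.trans h.ZJB)) ?_
  obtain ⟨l, hl⟩ := hT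
  intro e1
  have h1 : z l ∈ closure (z '' T) := subset_closure ⟨l, hl, rfl⟩
  rw [e1, mem_bot] at h1
  exact h.ne l h1

theorem ZJ_le_zc (hT : T.Nonempty) : ZJ ≤ zc (o2 (CT z T)) := by
  have h1 : ZJ ≤ centralizer (o2 (CT z T) : Set G) := le_centralizer_iff.1 (h.o2_CT_le_cent T)
  intro x hx
  have h2 : x ∈ CT z T := mem_CT.2 fun l _ => h.JJ hx (h.zJ l)
  exact mem_zc.2 ⟨h.char2_CT hT ⟨h2, h1 hx⟩, h.sqJ hx, fun y hy => mem_centralizer_iff.1 (h1 hx) y hy⟩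

/-- **`E_T ≤ Ω₁Z(O₂(C_T))`** -/
theorem ET_le_zc (hT : T.Nonempty) : ET ZJ z T ≤ zc (o2 (CT z T)) := by
  have hCn : CT z T ≤ normalizer (zc (o2 (CT z T)) : Set G) :=
    (le_normalizer_o2 _).trans (normalizer_le_normalizer_zc _)
  refine NoFF.Basic.V_le fun p hp x hx => ?_
  rw [NoFF.Basic.mem_conj] at hx
  have h1 := (mem_normalizer_iff.1 (hCn hp) _).1 (h.ZJ_le_zc hT hx)
  have e : p * (p⁻¹ * x * p) * p⁻¹ = x := by group
  rwa [e] at h1

theorem ET_le_o2 (hT : T.Nonempty) : ET ZJ z T ≤ o2 (CT z T) := (h.ET_le_zc hT).trans (zc_le _)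

/-- `E_T ≤ O₂(X)` for `C(ZJ) ≤ X ≤ C_T` -/
theorem ET_le_of_le (hT : T.Nonempty) {X : Subgroup G} (h1 : centralizer (ZJ : Set G) ≤ X)
    (h2 : X ≤ CT z T) : ET ZJ z T ≤ o2 X := (h.ET_le_o2 hT).trans (h.o2_CT_le_of_le T h1 h2)

/-- `E_T ≤ O₂(C(ZJ))` -/
theorem ET_le_O (hT : T.Nonempty) : ET ZJ z T ≤ o2 (centralizer (ZJ : Set G)) :=
  (h.ET_le_o2 hT).trans (h.o2_CT_le_o2 T)

theorem eab_ET (hT : T.Nonempty) : IsElementaryAbelian 2 (ET ZJ z T) := by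
  rw [eab_iff]
  constructor
  · intro x hx
    rw [mem_centralizer_iff]
    intro y hy
    exact (mem_zc.1 (h.ET_le_zc hT hx)).2.2 y (h.ET_le_o2 hT hy)
  · exact fun x hx => (mem_zc.1 (h.ET_le_zc hT hx)).2.1

/-! ### `Y_j`, `N_j` -/

omit h in
theorem compl_one_ne (hk : ∀ i j : ι, ∃ l, l ≠ i ∧ l ≠ j) (j : ι) : (({j} : Set ι)ᶜ).Nonempty := by
  obtain ⟨l, h1, -⟩ := hk j j
  exact ⟨l, h1⟩

omit h in
theorem compl_two_ne (hk : ∀ i j : ι, ∃ l, l ≠ i ∧ l ≠ j) (i j : ι) : (({i, j} : Set ι)ᶜ).Nonempty := by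
  obtain ⟨l, h1, h2⟩ := hk i j
  exact ⟨l, by simp [h1, h2]⟩

theorem D_le (j : ι) : centralizer (ZJ : Set G) ≤ Yc z j := h.D_le_CT _

theorem B_le (j : ι) : B ≤ Yc z j := h.B_le_CT _

theorem mem_N (j : ι) : z j ∈ Nc z j := by
  have := NoFF.Basic.Z_le_V (Z := zpowers (z j)) (one_mem (Yc z j))
  rw [map_one, one_smul] at this
  exact this (mem_zpowers _)

theorem stab (j : ι) : Yc z j ⊓ centralizer ({z j} : Set G) = centralizer (ZJ : Set G) := by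
  apply le_antisymm
  · rintro x ⟨hx, hxj⟩
    refine h.mem_D fun i => ?_
    by_cases hi : i = j
    · subst hi
      exact mem_centralizer_singleton_iff.1 hxj
    · exact mem_Yc.1 hx i hi
  · exact le_inf (h.D_le j) fun x hx => mem_centralizer_singleton_iff.2 (h.D_comm hx j)

/-- an element of `N(B)` which centralises all `z l`, `l ≠ j`, is in `D` -/
theorem norm_Y (j : ι) : Yc z j ⊓ normalizer (B : Set G) ≤ centralizer (ZJ : Set G) := by
  rintro g ⟨hg, hgB⟩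
  rw [← h.stab j]
  refine ⟨hg, mem_centralizer_singleton_iff.2 ?_⟩
  obtain ⟨m, hm⟩ := h.perm g hgB j
  have hmj : m = j := by
    by_contra hne
    have h1 : g * z m * g⁻¹ = z m := by rw [mem_Yc.1 hg m hne]; group
    have h2 : z j = z m := mul_left_cancel (mul_right_cancel (hm.trans h1.symm))
    exact hne (h.inj h2).symm
  subst hmj
  exact mul_inv_eq_iff_eq_mul.1 hm

/-- **`B` is Sylow in `Y_j`** -/
theorem syl_Y (j : ι) : Syl B (Yc z j) := by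
  refine ⟨h.B_le j, h.two, fun R hR h2 hBR => le_antisymm (h.le_of_norm h2 hBR ?_) hBR⟩
  exact (inf_le_inf_right _ hR).trans (h.norm_Y j)

/-- Frattini in `N(ZJ)` -/
theorem frattini {g : G} (hg : g ∈ normalizer (ZJ : Set G)) :
    ∃ d ∈ centralizer (ZJ : Set G), ∃ n ∈ normalizer (B : Set G), g = d * n := by
  have hgD : cj g (centralizer (ZJ : Set G)) = centralizer (ZJ : Set G) := by
    rw [cj_centralizer, cj_eq_of_mem_normalizer hg]
  have h1 : Syl (cj g B) (centralizer (ZJ : Set G)) := by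
    refine ⟨by rw [← hgD]; exact cj_mono g h.syl.1, isPGroup_cj g h.two, fun R hR h2 hBR => ?_⟩
    have h3 : cj g⁻¹ R ≤ centralizer (ZJ : Set G) := by
      have := cj_mono g⁻¹ (hR.trans hgD.ge)
      rwa [cj_inv_cj] at this
    have h4 : B ≤ cj g⁻¹ R := by
      have := cj_mono g⁻¹ hBR
      rwa [cj_inv_cj] at this
    have h5 := h.syl.2.2 _ h3 (isPGroup_cj g⁻¹ h2) h4
    rw [← h5, cj_cj_inv]
  obtain ⟨d, hd, e⟩ := ZN.ChoiceSit.syl_conj h.syl h1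
  refine ⟨d, hd, d⁻¹ * g, ?_, by group⟩
  rw [mem_normalizer_iff_cj, ← cj_cj, ← e, cj_inv_cj]

end Bx

end Cfsg.Agent.Omega.EDel.BxF
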