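import Cfsg.Agent.Omega.EDel.Bx.Par
import Cfsg.Agent.Omega.EDel.ThmU

/-!
# The universal frame over `B`, `q = 2` : the inputs of THEOREM U

* `Bx.toFr` : the structure `ThmU.Fr` for `Y i = C_G(z_l : l ≠ i)`, `N i = ⟨z_i^(Y_i)⟩`;
* `Bx.NB`, `Bx.QO`, `Bx.ch`, `Bx.par_pair` : the further inputs.
-/

set_option autoImplicit false
set_option linter.unusedSectionVars false

namespace Cfsg.Agent.Omega.EDel.BxF

open Subgroup Cfsg Cfsg.Agent.ZN.ChoiceBase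
open Cfsg.Agent.ZN (zc zl o2)
open Cfsg.Agent.ZN.ChoiceSit (Syl o2_le_syl)
open Cfsg.Agent.Omega.NO3S.EThree.ExactA (eab_mono eab_sup eab_iff)
open Cfsg.Agent.Omega.EK3 (CT mem_CT CT_mono ET ZJ_le_ET CT_norm_ET V_le_ET CT_compl_le CT_compl_le' Yc mem_Yc Nc
  Y_norm_V Y_norm_N)
open Cfsg.Agent.Omega.EK3.Rank (NoOn)
open Cfsg.Agent.Omega.ESym.CoreS (EI EI_mono EI_norm Sy)
open Cfsg.Agent.MinSimple.MinParabolic (IsMinPar le_of_forall)
open Cfsg.Agent.MinSimple.VModule (zc_le normalizer_le_normalizer_zc le_normalizer_o2 o2_isPGroup le_o2 o2_le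
  le_centralizer_zc)
open scoped Pointwise

universe u

variable {G : Type u} [Group G]

/-- `C_G(z_n : n ≠ l, m)` is `C_T` for `T = {l, m}ᶜ` -/
theorem X_eq {ι : Type} (z : ι → G) (l m : ι) :
    centralizer {x | ∃ n, n ≠ l ∧ n ≠ m ∧ z n = x} = CT z ({l, m} : Set ι)ᶜ := by
  unfold CT
  congr 1
  ext x
  constructor
  · rintro ⟨n, h1, h2, rfl⟩
    exact ⟨n, by simp [h1, h2], rfl⟩
  · rintro ⟨n, hn, rfl⟩
    exact ⟨n, fun e => hn (Or.inl e), fun e => hn (Or.inr e), rfl⟩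

/-- `Y_i = C_G(z_n : n ≠ i)` as a centraliser -/
theorem Yc_eq {ι : Type} (z : ι → G) (i : ι) : Yc z i = centralizer {x | ∃ n, n ≠ i ∧ z n = x} := by
  ext x
  rw [mem_Yc, mem_centralizer_iff]
  constructor
  · rintro h1 _ ⟨n, hn, rfl⟩
    exact (h1 n hn).symm
  · exact fun h1 l hl => (h1 _ ⟨l, hl, rfl⟩).symm

namespace Bx

variable [Finite G] {B J ZJ : Subgroup G} {ι : Type} {W : ι → Subgroup G} {z : ι → G} (h : Bx B J ZJ W z)
include h

theorem closure_eq : ZJ = closure (Set.range z) :=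
  le_antisymm h.gen ((closure_le _).2 (by rintro _ ⟨i, rfl⟩; exact h.zJ i))

theorem D_eq : centralizer (ZJ : Set G) = centralizer (Set.range z) := by
  rw [h.closure_eq, centralizer_closure]

omit h [Finite G] in
theorem Y_le_CT {I : Set ι} {i : ι} (hi : i ∈ I) : Yc z i ≤ CT z Iᶜ :=
  CT_mono (Set.compl_subset_compl.2 (Set.singleton_subset_iff.2 hi))

omit h in
theorem EI_le (I : Set ι) : EI ZJ (Yc z) I ≤ ET ZJ z Iᶜ := by
  have h1 : (⨆ i : I, Yc z i : Subgroup G) ≤ CT z Iᶜ := iSup_le fun i => Y_le_CT i.2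
  refine iSup_le fun y => ?_
  have h2 := cj_mono (y : G) (ZJ_le_ET (ZJ := ZJ) (z := z) (T := Iᶜ))
  rwa [cj_eq_of_mem_normalizer (CT_norm_ET (h1 y.2))] at h2

/-- `O ≠ 1` -/
theorem O_ne [Nonempty ι] : o2 (centralizer (ZJ : Set G)) ≠ ⊥ := by
  obtain ⟨i⟩ := ‹Nonempty ι›
  intro e
  have h1 := h.N_le_O i (h.mem_N i)
  rw [e, mem_bot] at h1
  exact h.ne i h1

/-- **the frame of THEOREM U** -/
theorem toFr (hML : ML.Final.MLK.{u, u}) (kg : ∀ j, IsKGroup (Yc z j)) :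
    ThmU.Fr (o2 (centralizer (ZJ : Set G))) (centralizer (ZJ : Set G)) ZJ (Yc z) (Nc z) where
  two := o2_isPGroup _
  OY := h.O_le_Y
  OZ := o2_le _
  DY := h.D_le
  three := h.three
  eab := by
    intro I hI
    have hne : (Iᶜ : Set ι).Nonempty := Set.nonempty_compl.2 hI
    exact ⟨eab_mono (h.eab_ET hne) (EI_le I), (EI_le I).trans (h.ET_le_O hne)⟩
  NE := by
    intro i
    refine N_le_of ?_ (EI_norm rfl)
    have h1 : cj (1 : G) ZJ ≤ EI ZJ (Yc z) {i} :=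
      le_iSup (fun y : (⨆ j : ({i} : Set ι), Yc z j : Subgroup G) => cj (y : G) ZJ) 1
    rw [cj_one] at h1
    exact h1 (h.zJ i)
  YN := Y_norm_N
  YQ := by
    intro i
    rw [← h.Q_eq i]
    exact le_normalizer_o2 _
  no := fun i => h.no hML (kg i)
  gen := by
    intro j K hK hn hc
    exact h.genY hK hn fun h' => hc (inf_le_left.trans h')
  ZN := fun i y hy => h.ZN i hy

/-- `N_G(B)` permutes the `z i` and induces symmetries -/
theorem NB [Finite ι] {g : G} (hg : g ∈ normalizer (B : Set G)) :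
    ∃ σ : Equiv.Perm ι, Sy (o2 (centralizer (ZJ : Set G))) (Yc z) (Nc z) g σ ∧ ∀ i, g * z i * g⁻¹ = z (σ i) := by
  obtain ⟨σ, hσ⟩ := conj_of h.inj (h.perm g hg)
  refine ⟨σ, ⟨?_, fun l => (hσ l).2.1, fun l => (hσ l).2.2⟩, fun i => (hσ i).1⟩
  rw [← ZN.ChoiceSit.o2_cj, cj_centralizer, cj_eq_of_mem_normalizer (h.norm_ZJ hg)]

theorem QO (i : ι) : o2 (centralizer (ZJ : Set G)) ⊓ centralizer (Nc z i : Set G) ≤ o2 (Yc z i) := (h.Q_eq i).ge

/-- `X = C_G(z_n : n ≠ l, m)` has characteristic 2 -/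
theorem ch (l m : ι) : centralizer {x | ∃ n, n ≠ l ∧ n ≠ m ∧ z n = x} ⊓
    centralizer (o2 (centralizer {x | ∃ n, n ≠ l ∧ n ≠ m ∧ z n = x}) : Set G) ≤
      o2 (centralizer {x | ∃ n, n ≠ l ∧ n ≠ m ∧ z n = x}) := by
  rw [X_eq]
  exact h.char2_CT (compl_two_ne h.three l m)

/-- the members of `𝒫(X, B)` centralise `z l` or `z m` -/
theorem par_pair {l m : ι} (hlm : l ≠ m) (hs : Syl B (centralizer {x | ∃ n, n ≠ l ∧ n ≠ m ∧ z n = x}))
    (hN : centralizer {x | ∃ n, n ≠ l ∧ n ≠ m ∧ z n = x} ⊓ normalizer (B : Set G) ≤ centralizer (ZJ : Set G))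
    {R : Subgroup G} (hR : IsMinPar B R) (hRX : R ≤ centralizer {x | ∃ n, n ≠ l ∧ n ≠ m ∧ z n = x}) :
    R ≤ centralizer ({z l} : Set G) ∨ R ≤ centralizer ({z m} : Set G) := by
  rw [X_eq] at hs hN hRX
  by_cases hD : R ≤ centralizer (ZJ : Set G)
  · exact Or.inl fun x hx => mem_centralizer_singleton_iff.2 (h.D_comm (hD hx) l)
  obtain ⟨i, -, hi⟩ := h.parX (compl_two_ne h.three l m) hs hN hR hRX hD
  by_cases hil : l = i
  · exact Or.inr (hi m fun e => hlm (hil.trans e.symm))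
  · exact Or.inl (hi l hil)

end Bx

end Cfsg.Agent.Omega.EDel.BxF
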