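import Cfsg.Agent.Omega.KL.TwoS.Fr

/-!
# LEMMA ZJ+, step (2) (helper285 #25856 (1), (2); helper271 #26119 (2); literal of #26356)

`E` elementary abelian (`E = Ω₁Z(J(Q_b))`), `A` of maximal order in `O`, `E ≤ N C_E(A)`, `t ∈ A` moves `e ∈ N` to `e z`;
`X` central. `y ∈ E` with `[Q, y] ⊆ X ∪ eX`. Then `[Q, y] ⊆ X`.

* `cnt` : the count `|F| |C_E(F)| ≤ |F C_E(F)| |C_E(A)|` for `F ≤ A`;
* **`step2`**.
-/

set_option autoImplicit false
set_option linter.unusedVariables false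

namespace Cfsg.Agent.Omega.EDel.LamZJ

open Subgroup
open Cfsg.Agent.Omega.KL.TwoS (Mx comm_of_sq sq_sup)
open Cfsg.Agent.Omega.NoFF.ThmJFam (card_sup_inf)
open Cfsg.Agent.Omega.NoFF.Basic (comm_symm)
open Cfsg.Agent.Omega.OM.KTwo (exists_mul_of_mem_sup)

universe u

variable {G : Type u} [Group G] [Finite G]

/-- the count -/
theorem cnt {O A E F : Subgroup G} (hA : Mx O A) (FA : F ≤ A) :
    Nat.card F * Nat.card (E ⊓ centralizer (F : Set G) : Subgroup G) ≤
      Nat.card (F ⊔ E ⊓ centralizer (F : Set G) : Subgroup G) *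
        Nat.card (E ⊓ centralizer (A : Set G) : Subgroup G) := by
  have h1 := card_sup_inf (A := F) (B := E ⊓ centralizer (F : Set G)) (comm_symm inf_le_right)
  have h2 : F ⊓ (E ⊓ centralizer (F : Set G)) ≤ E ⊓ centralizer (A : Set G) :=
    le_inf (inf_le_right.trans inf_le_left) (inf_le_left.trans (FA.trans hA.comm))
  have h3 := Subgroup.card_le_of_le h2
  calc _ = _ := h1.symm
    _ ≤ _ := Nat.mul_le_mul_left _ h3

/-- a proper subgroup has index at least 2 -/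
theorem two_mul_le {H K : Subgroup G} (h : H ≤ K) {x : G} (hx : x ∈ K) (hx' : x ∉ H) :
    2 * Nat.card H ≤ Nat.card K := by
  obtain ⟨m, hm⟩ := Subgroup.card_dvd_of_le h
  have hK : 0 < Nat.card K := Nat.card_pos
  have h1 : m ≠ 0 := by
    rintro rfl
    omega
  have h2 : m ≠ 1 := by
    rintro rfl
    rw [mul_one] at hm
    exact hx' ((Subgroup.eq_of_le_of_card_ge h hm.le).ge hx)
  rw [hm, mul_comm 2]
  exact Nat.mul_le_mul_left _ (by omega)

/-- in index 2 the product of two elements outside lies inside -/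
theorem mul_inv_mem_of {H K : Subgroup G} (h : H ≤ K) (hc : Nat.card K ≤ 2 * Nat.card H) {x y : G} (hx : x ∈ K)
    (hx' : x ∉ H) (hy : y ∈ K) (hy' : y ∉ H) : y * x⁻¹ ∈ H := by
  have h1 : H.relIndex K ≤ 2 := by
    have h2 := Subgroup.card_mul_index (H.subgroupOf K)
    have h3 : Nat.card (H.subgroupOf K) = Nat.card H :=
      Nat.card_congr (Subgroup.subgroupOfEquivOfLe h).toEquiv
    rw [h3] at h2
    have hH : 0 < Nat.card H := Nat.card_pos
    change (H.subgroupOf K).index ≤ 2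
    by_contra h4
    push Not at h4
    have h5 : Nat.card H * 3 ≤ Nat.card H * (H.subgroupOf K).index := Nat.mul_le_mul_left _ h4
    rw [h2] at h5
    omega
  have h2 : (H.subgroupOf K).index = 2 := by
    have h3 : (H.subgroupOf K).index ≠ 0 := Subgroup.index_ne_zero_of_finite
    have h4 : (H.subgroupOf K).index ≠ 1 := by
      intro h5
      rw [Subgroup.index_eq_one] at h5
      apply hx'
      have h6 : (⟨x, hx⟩ : K) ∈ H.subgroupOf K := h5 ▸ mem_top _
      exact mem_subgroupOf.1 h6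
    have h5 : (H.subgroupOf K).index ≤ 2 := h1
    omega
  have h3 := (Subgroup.mul_mem_iff_of_index_two h2 (a := (⟨y, hy⟩ : K)) (b := (⟨x, hx⟩ : K)⁻¹)).2 (by
    rw [inv_mem_iff]
    simp only [mem_subgroupOf]
    exact ⟨fun h => absurd h hy', fun h => absurd h hx'⟩)
  exact mem_subgroupOf.1 h3

/-- `K = H ∪ t⁻¹ H` -/
theorem card_le_of {H K : Subgroup G} {t : G} (h : ∀ x ∈ K, x ∈ H ∨ t * x ∈ H) : Nat.card K ≤ 2 * Nat.card H := by
  classical
  let f : K → H ⊕ H := fun x =>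
    if hx : (x : G) ∈ H then Sum.inl ⟨x, hx⟩ else Sum.inr ⟨t * x, (h x x.2).resolve_left hx⟩
  have hf : Function.Injective f := by
    intro x y hxy
    by_cases hx : (x : G) ∈ H <;> by_cases hy : (y : G) ∈ H <;> simp only [f, hx, hy, dif_pos, dif_neg,
      not_false_eq_true, Sum.inl.injEq, Sum.inr.injEq, reduceCtorEq, Subtype.mk.injEq] at hxy
    · exact Subtype.ext hxy
    · exact Subtype.ext (mul_left_cancel hxy)
  have h1 := Nat.card_le_card_of_injective f hf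
  rw [Nat.card_sum] at h1
  omega

/-- **Step (2) of LEMMA ZJ+.** -/
theorem step2 {O E N X Q A : Subgroup G} {t z e y : G} (hA : Mx O A) (EO : E ≤ O) (Esq : ∀ x ∈ E, x ^ 2 = 1)
    (NE : N ≤ E) (EN : E ≤ N ⊔ (E ⊓ centralizer (A : Set G))) (AE : A ≤ normalizer (E : Set G)) (ht : t ∈ A)
    (he : e ∈ N) (hz : z ∈ E) (hte : t * e * t⁻¹ = e * z) (htz : t * z = z * t) (zQ : ∀ g ∈ Q, g * z = z * g)
    (zX : z ∉ X) (XA : ∀ x ∈ X, ∀ a ∈ A, a * x = x * a) (XE : X ≤ E)
    (Ae : ∀ a ∈ A, a * e = e * a ∨ a * e * a⁻¹ = e * z) (AQ : ∀ a ∈ A, a * e = e * a → a ∈ Q)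
    (tQ : t ∈ normalizer (Q : Set G))
    (k3 : ∀ A' : Subgroup G, Mx O A' → ∀ w ∈ N, (∀ a ∈ A', a * w * a⁻¹ * w⁻¹ ∈ X) → ∀ a ∈ A', a * w = w * a)
    (hy : y ∈ E) (hyQ : ∀ g ∈ Q, g * y * g⁻¹ * y⁻¹ ∈ X ∨ ∃ x ∈ X, g * y * g⁻¹ * y⁻¹ = e * x) :
    ∀ g ∈ Q, g * y * g⁻¹ * y⁻¹ ∈ X := by
  have hEc : ∀ a ∈ E, ∀ b ∈ E, a * b = b * a := fun a ha b hb =>
    (mem_centralizer_iff.1 (comm_of_sq Esq ha) b hb).symm
  have hAc : ∀ a ∈ A, ∀ b ∈ A, a * b = b * a := fun a ha b hb => (mem_centralizer_iff.1 (hA.comm ha) b hb).symm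
  have heE : e ∈ E := NE he
  have hinv : ∀ a ∈ E, a⁻¹ = a := fun a ha => inv_eq_of_mul_eq_one_right (by rw [← pow_two]; exact Esq a ha)
  have sqE : ∀ a ∈ E, a * a = 1 := fun a ha => by rw [← pow_two]; exact Esq a ha
  have conjE : ∀ a ∈ A, ∀ x ∈ E, a * x * a⁻¹ ∈ E := fun a ha x hx => (mem_normalizer_iff.1 (AE ha) x).1 hx
  -- `A₀ = C_A(e)`, index 2
  set A0 : Subgroup G := A ⊓ centralizer ({e} : Set G) with hA0
  have mem0 : ∀ {a : G}, a ∈ A0 ↔ a ∈ A ∧ a * e = e * a := by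
    intro a
    rw [hA0, mem_inf, mem_centralizer_singleton_iff]
  have z1 : z ≠ 1 := fun h => zX (h ▸ one_mem _)
  have hte' : ¬ t * e = e * t := by
    intro h1
    rw [h1, mul_inv_cancel_right] at hte
    exact z1 (mul_left_cancel (a := e) (by rw [mul_one, ← hte]))
  have hA0card : Nat.card A ≤ 2 * Nat.card A0 := by
    refine card_le_of (t := t) fun x hx => ?_
    rcases Ae x hx with h1 | h1
    · exact Or.inl (mem0.2 ⟨hx, h1⟩)
    · right
      refine mem0.2 ⟨mul_mem ht hx, ?_⟩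
      have h2 : t * x * e * (t * x)⁻¹ = e := by
        calc t * x * e * (t * x)⁻¹ = t * (x * e * x⁻¹) * t⁻¹ := by group
          _ = t * (e * z) * t⁻¹ := by rw [h1]
          _ = (t * e * t⁻¹) * (t * z * t⁻¹) := by group
          _ = e * z * z := by rw [hte, htz, mul_inv_cancel_right]
          _ = e := by rw [mul_assoc, sqE z hz, mul_one]
      calc t * x * e = t * x * e * (t * x)⁻¹ * (t * x) := by group
        _ = e * (t * x) := by rw [h2]
  -- the group `H = C_E(A)` and the decomposition `y = w c`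
  set H : Subgroup G := E ⊓ centralizer (A : Set G) with hH
  have memH : ∀ {x : G}, x ∈ H ↔ x ∈ E ∧ ∀ a ∈ A, a * x = x * a := by
    intro x
    rw [hH, mem_inf, mem_centralizer_iff]
    exact Iff.rfl
  have eH : e ∉ H := fun h => hte' ((memH.1 h).2 t ht)
  obtain ⟨w, hw, c, hc, rfl⟩ := exists_mul_of_mem_sup (F := N) (N := H)
    (((inf_le_left.trans (comm_of_sq Esq)).trans (centralizer_le NE)).trans (centralizer_le_normalizer _)) (EN hy)
  have hwE : w ∈ E := NE hw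
  have hcE : c ∈ E := (memH.1 hc).1
  have hcA := (memH.1 hc).2
  -- `k3` for `F C_E(F)`
  have use : ∀ F : Subgroup G, F ≤ A → (∀ f ∈ F, f * (w * c) * f⁻¹ * (w * c)⁻¹ ∈ X) →
      Mx O (F ⊔ E ⊓ centralizer (F : Set G)) → w * c ∈ E ⊓ centralizer (F : Set G) := by
    intro F FA hF hMx
    refine mem_inf.2 ⟨hy, ?_⟩
    have h1 : ∀ a ∈ F ⊔ E ⊓ centralizer (F : Set G), a * w * a⁻¹ * w⁻¹ ∈ X := by
      intro a ha
      obtain ⟨f, hf, d, hd, rfl⟩ := exists_mul_of_mem_sup (F := F) (N := E ⊓ centralizer (F : Set G))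
        (inf_le_right.trans (centralizer_le_normalizer _)) ha
      have e1 : f * d * w * (f * d)⁻¹ * w⁻¹ = f * (w * c) * f⁻¹ * (w * c)⁻¹ := by
        have e2 : d * w * d⁻¹ = w := by rw [hEc d hd.1 w hwE, mul_inv_cancel_right]
        have e3 : f * c * f⁻¹ = c := by rw [hcA f (FA hf), mul_inv_cancel_right]
        calc f * d * w * (f * d)⁻¹ * w⁻¹ = f * (d * w * d⁻¹) * f⁻¹ * w⁻¹ := by group
          _ = f * w * f⁻¹ * w⁻¹ := by rw [e2]
          _ = f * w * f⁻¹ * (c * c⁻¹) * w⁻¹ := by group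
          _ = f * w * f⁻¹ * ((f * c * f⁻¹) * c⁻¹) * w⁻¹ := by rw [e3]
          _ = f * (w * c) * f⁻¹ * (w * c)⁻¹ := by group
      rw [e1]
      exact hF f hf
    have h2 := k3 _ hMx w hw h1
    rw [mem_centralizer_iff]
    intro f hf
    have h3 := h2 f (mem_sup_left hf)
    calc f * (w * c) = f * w * c := by group
      _ = w * (f * c) := by rw [h3]; group
      _ = w * c * f := by rw [hcA f (FA hf)]; group
  set y : G := w * c with hydef
  have kE : ∀ a ∈ A, a * y * a⁻¹ * y⁻¹ ∈ E := fun a ha => mul_mem (conjE a ha y hy) (inv_mem hy)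
  -- the product formula
  have hprod : ∀ a ∈ A, ∀ b ∈ A, a * b * y * (a * b)⁻¹ * y⁻¹ = a * (b * y * b⁻¹ * y⁻¹) * a⁻¹ * (a * y * a⁻¹ * y⁻¹) := by
    intro a _ b _
    group
  by_cases hb : ∀ x ∈ A0, x * y * x⁻¹ * y⁻¹ ∈ X
  · -- β = 0
    have cF := cnt (E := E) hA (inf_le_left : A0 ≤ A)
    rw [← hH] at cF
    set L : Subgroup G := E ⊓ centralizer (A0 : Set G) with hL
    have HL : H ≤ L := le_inf inf_le_left (inf_le_right.trans (centralizer_le inf_le_left))
    have eL : e ∈ L := ⟨heE, mem_centralizer_iff.2 fun a ha => (mem0.1 ha).2⟩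
    have h1 := two_mul_le HL eL eH
    have pH : 0 < Nat.card H := Nat.card_pos
    have hle : A0 ⊔ L ≤ O := sup_le (inf_le_left.trans hA.le) (inf_le_left.trans EO)
    have hsq : ∀ a ∈ A0 ⊔ L, a ^ 2 = 1 :=
      sq_sup (fun a ha => hA.sq a ha.1) (fun a ha => Esq a ha.1) (comm_symm inf_le_right)
    have hmax := hA.max _ hle hsq
    have hMx : Mx O (A0 ⊔ L) := by
      refine hA.of_card hle hsq ?_
      apply Nat.le_of_mul_le_mul_right _ pH
      calc Nat.card A * Nat.card H ≤ 2 * Nat.card A0 * Nat.card H := Nat.mul_le_mul_right _ hA0card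
        _ = Nat.card A0 * (2 * Nat.card H) := by ring
        _ ≤ Nat.card A0 * Nat.card L := Nat.mul_le_mul_left _ h1
        _ ≤ _ := cF
    have hLcard : Nat.card L ≤ 2 * Nat.card H := by
      have p0 : 0 < Nat.card A0 := Nat.card_pos
      apply Nat.le_of_mul_le_mul_left _ p0
      calc Nat.card A0 * Nat.card L ≤ Nat.card (A0 ⊔ L : Subgroup G) * Nat.card H := cF
        _ ≤ Nat.card A * Nat.card H := Nat.mul_le_mul_right _ hmax
        _ ≤ 2 * Nat.card A0 * Nat.card H := Nat.mul_le_mul_right _ hA0card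
        _ = _ := by ring
    have hyL : y ∈ L := use A0 inf_le_left hb hMx
    -- `t y t⁻¹ ∈ {y, y z}`
    have hty : ∀ g ∈ Q, g * (t * y * t⁻¹) * g⁻¹ * (t * y * t⁻¹)⁻¹ = g * y * g⁻¹ * y⁻¹ := by
      intro g hg
      by_cases hyH : y ∈ H
      · have h2 : t * y * t⁻¹ = y := by rw [(memH.1 hyH).2 t ht, mul_inv_cancel_right]
        rw [h2]
      · have h2 := mul_inv_mem_of HL hLcard eL eH hyL hyH
        have h3 := (memH.1 h2).2 t ht
        have h4 : t * y * t⁻¹ = y * z := by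
          calc t * y * t⁻¹ = t * (y * e⁻¹) * t⁻¹ * (t * e * t⁻¹) := by group
            _ = y * e⁻¹ * (e * z) := by rw [h3, mul_inv_cancel_right, hte]
            _ = y * z := by group
        have h5 : g * z * g⁻¹ = z := by rw [zQ g hg, mul_inv_cancel_right]
        rw [h4]
        calc g * (y * z) * g⁻¹ * (y * z)⁻¹ = g * y * g⁻¹ * (g * z * g⁻¹) * z⁻¹ * y⁻¹ := by group
          _ = g * y * g⁻¹ * y⁻¹ := by rw [h5, mul_inv_cancel_right]
    intro g hg
    have hg' : t⁻¹ * g * t ∈ Q := by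
      have h2 := (mem_normalizer_iff.1 (inv_mem tQ) g).1 hg
      rwa [inv_inv] at h2
    have e1 : t * (t⁻¹ * g * t * y * (t⁻¹ * g * t)⁻¹ * y⁻¹) * t⁻¹ = g * y * g⁻¹ * y⁻¹ := by
      rw [← hty g hg]
      group
    have hXt : ∀ x ∈ X, t * x * t⁻¹ = x := fun x hx => by rw [XA x hx t ht, mul_inv_cancel_right]
    rcases hyQ _ hg' with h2 | ⟨x', hx', h2⟩
    · rw [← e1, hXt _ h2]
      exact h2
    · rcases hyQ g hg with h3 | ⟨x, hx, h3⟩
      · exact h3
      · exfalso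
        rw [h2, h3] at e1
        have h4 : t * (e * x') * t⁻¹ = e * z * x' := by
          calc t * (e * x') * t⁻¹ = (t * e * t⁻¹) * (t * x' * t⁻¹) := by group
            _ = e * z * x' := by rw [hte, hXt x' hx']
        rw [h4, mul_assoc] at e1
        have h5 : z * x' = x := mul_left_cancel e1
        apply zX
        have h6 : z = x * x'⁻¹ := by rw [← h5]; group
        rw [h6]
        exact mul_mem hx (inv_mem hx')
  · -- β ≠ 0
    exfalso
    push Not at hb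
    obtain ⟨x0, hx0, hx0'⟩ := hb
    have hx0A := (mem0.1 hx0).1
    have k0 : ∀ {x : G}, x ∈ A0 → x * y * x⁻¹ * y⁻¹ ∉ X → ∃ ξ ∈ X, x * y * x⁻¹ * y⁻¹ = e * ξ := by
      intro x hx hxX
      rcases hyQ x (AQ x (mem0.1 hx).1 (mem0.1 hx).2) with h | ⟨ξ, hξ, h⟩
      · exact absurd h hxX
      · exact ⟨ξ, hξ, h⟩
    obtain ⟨ξ0, hξ0, hk0⟩ := k0 hx0 hx0'
    -- `F = ker β`
    let F : Subgroup G :=
      { carrier := {x | x ∈ A0 ∧ x * y * x⁻¹ * y⁻¹ ∈ X}
        one_mem' := ⟨one_mem _, by simp⟩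
        mul_mem' := by
          rintro a b ⟨ha, ha'⟩ ⟨hb, hb'⟩
          refine ⟨mul_mem ha hb, ?_⟩
          rw [hprod a (mem0.1 ha).1 b (mem0.1 hb).1]
          refine mul_mem ?_ ha'
          rw [XA _ hb' a (mem0.1 ha).1, mul_inv_cancel_right]
          exact hb'
        inv_mem' := by
          rintro a ⟨ha, ha'⟩
          have h2 : a⁻¹ = a := inv_eq_of_mul_eq_one_right (by rw [← pow_two]; exact hA.sq a (mem0.1 ha).1)
          rw [h2]
          exact ⟨ha, ha'⟩ }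
    have memF : ∀ {x : G}, x ∈ F ↔ x ∈ A0 ∧ x * y * x⁻¹ * y⁻¹ ∈ X := Iff.rfl
    have FA0 : F ≤ A0 := fun x hx => (memF.1 hx).1
    have FA : F ≤ A := FA0.trans inf_le_left
    have ce : ∀ x ∈ A0, x * e * x⁻¹ = e := fun x hx => by rw [(mem0.1 hx).2, mul_inv_cancel_right]
    have hFcard : Nat.card A0 ≤ 2 * Nat.card F := by
      refine card_le_of (t := x0) fun x hx => ?_
      by_cases h1 : x * y * x⁻¹ * y⁻¹ ∈ X
      · exact Or.inl (memF.2 ⟨hx, h1⟩)
      · right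
        obtain ⟨ξ, hξ, hk⟩ := k0 hx h1
        refine memF.2 ⟨mul_mem hx0 hx, ?_⟩
        rw [hprod x0 hx0A x (mem0.1 hx).1, hk, hk0]
        have h2 : x0 * (e * ξ) * x0⁻¹ = e * ξ := by
          have h3 : x0 * ξ * x0⁻¹ = ξ := by rw [XA ξ hξ x0 hx0A, mul_inv_cancel_right]
          calc x0 * (e * ξ) * x0⁻¹ = (x0 * e * x0⁻¹) * (x0 * ξ * x0⁻¹) := by group
            _ = e * ξ := by rw [ce x0 hx0, h3]
        rw [h2]
        have h4 : e * ξ * (e * ξ0) = ξ * ξ0 := by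
          calc e * ξ * (e * ξ0) = (e * ξ) * e * ξ0 := by group
            _ = (ξ * e) * e * ξ0 := by rw [hEc e heE ξ (XE hξ)]
            _ = ξ * (e * e) * ξ0 := by group
            _ = ξ * ξ0 := by rw [sqE e heE, mul_one]
        rw [h4]
        exact mul_mem hξ hξ0
    have cF := cnt (E := E) hA FA
    rw [← hH] at cF
    set L1 : Subgroup G := E ⊓ centralizer (A0 : Set G) with hL1
    set L : Subgroup G := E ⊓ centralizer (F : Set G) with hL
    have HL1 : H ≤ L1 := le_inf inf_le_left (inf_le_right.trans (centralizer_le inf_le_left))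
    have L1L : L1 ≤ L := le_inf inf_le_left (inf_le_right.trans (centralizer_le FA0))
    have eL1 : e ∈ L1 := ⟨heE, mem_centralizer_iff.2 fun a ha => (mem0.1 ha).2⟩
    -- `y_t = [t, y]`
    set yt : G := t * y * t⁻¹ * y⁻¹ with hyt
    have ytE : yt ∈ E := kE t ht
    have comt : ∀ x ∈ A, x * yt * x⁻¹ = t * (x * y * x⁻¹ * y⁻¹) * t⁻¹ * (x * y * x⁻¹ * y⁻¹)⁻¹ * yt := by
      intro x hx
      have h1 : x * t = t * x := hAc x hx t ht
      have h2 : x * (t * y * t⁻¹) * x⁻¹ = t * (x * y * x⁻¹) * t⁻¹ := by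
        calc x * (t * y * t⁻¹) * x⁻¹ = (x * t) * y * (x * t)⁻¹ := by group
          _ = t * (x * y * x⁻¹) * t⁻¹ := by rw [h1]; group
      set k : G := x * y * x⁻¹ * y⁻¹ with hk
      have h3 : x * y * x⁻¹ = k * y := by rw [hk]; group
      have h4 : x * yt * x⁻¹ = t * (x * y * x⁻¹) * t⁻¹ * (x * y * x⁻¹)⁻¹ := by
        rw [← h2, hyt]
        group
      rw [h4, h3]
      have h5 : k⁻¹ * yt = yt * k⁻¹ := hEc _ (inv_mem (kE x hx)) _ ytE
      calc t * (k * y) * t⁻¹ * (k * y)⁻¹ = t * k * t⁻¹ * (t * y * t⁻¹ * y⁻¹) * k⁻¹ := by group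
        _ = t * k * t⁻¹ * (yt * k⁻¹) := by rw [← hyt]; group
        _ = t * k * t⁻¹ * k⁻¹ * yt := by rw [← h5]; group
    have hXt : ∀ x ∈ X, t * x * t⁻¹ = x := fun x hx => by rw [XA x hx t ht, mul_inv_cancel_right]
    have ytL : yt ∈ L := by
      refine ⟨ytE, mem_centralizer_iff.2 fun x hx => ?_⟩
      have h1 := comt x (FA hx)
      rw [hXt _ (memF.1 hx).2, mul_inv_cancel, one_mul] at h1
      calc x * yt = x * yt * x⁻¹ * x := by group
        _ = yt * x := by rw [h1]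
    have hx0t : x0 * yt * x0⁻¹ = z * yt := by
      rw [comt x0 hx0A, hk0]
      congr 1
      calc t * (e * ξ0) * t⁻¹ * (e * ξ0)⁻¹ = (t * e * t⁻¹) * (t * ξ0 * t⁻¹) * ξ0⁻¹ * e⁻¹ := by group
        _ = e * z * e⁻¹ := by rw [hte, hXt ξ0 hξ0, mul_inv_cancel_right]
        _ = z := by rw [hEc e heE z hz, mul_inv_cancel_right]
    have ytL1 : yt ∉ L1 := by
      intro h1
      have h2 : x0 * yt = yt * x0 := mem_centralizer_iff.1 h1.2 x0 hx0
      rw [h2, mul_inv_cancel_right] at hx0t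
      exact z1 (mul_right_cancel (b := yt) (by rw [one_mul, ← hx0t]))
    have h1 := two_mul_le HL1 eL1 eH
    have h2 := two_mul_le L1L ytL ytL1
    have pH : 0 < Nat.card H := Nat.card_pos
    have pF : 0 < Nat.card F := Nat.card_pos
    have hle : F ⊔ L ≤ O := sup_le (FA.trans hA.le) (inf_le_left.trans EO)
    have hsq : ∀ a ∈ F ⊔ L, a ^ 2 = 1 :=
      sq_sup (fun a ha => hA.sq a (FA ha)) (fun a ha => Esq a ha.1) (comm_symm inf_le_right)
    have hmax := hA.max _ hle hsq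
    have hA4 : Nat.card A ≤ 4 * Nat.card F := by omega
    have hMx : Mx O (F ⊔ L) := by
      refine hA.of_card hle hsq ?_
      apply Nat.le_of_mul_le_mul_right _ pH
      calc Nat.card A * Nat.card H ≤ 4 * Nat.card F * Nat.card H := Nat.mul_le_mul_right _ hA4
        _ = Nat.card F * (4 * Nat.card H) := by ring
        _ ≤ Nat.card F * Nat.card L := Nat.mul_le_mul_left _ (by omega)
        _ ≤ _ := cF
    have hLcard : Nat.card L ≤ 4 * Nat.card H := by
      apply Nat.le_of_mul_le_mul_left _ pF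
      calc Nat.card F * Nat.card L ≤ Nat.card (F ⊔ L : Subgroup G) * Nat.card H := cF
        _ ≤ Nat.card A * Nat.card H := Nat.mul_le_mul_right _ hmax
        _ ≤ 4 * Nat.card F * Nat.card H := Nat.mul_le_mul_right _ hA4
        _ = _ := by ring
    have hyL : y ∈ L := use F FA (fun f hf => (memF.1 hf).2) hMx
    have hyL1 : y ∉ L1 := by
      intro h3
      have h4 : x0 * y = y * x0 := mem_centralizer_iff.1 h3.2 x0 hx0
      apply hx0'
      rw [h4, mul_inv_cancel_right, mul_inv_cancel]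
      exact one_mem _
    have h3 := mul_inv_mem_of L1L (by omega) ytL ytL1 hyL hyL1
    have h4 : x0 * (y * yt⁻¹) * x0⁻¹ = y * yt⁻¹ := by
      have h5 : x0 * (y * yt⁻¹) = (y * yt⁻¹) * x0 := mem_centralizer_iff.1 h3.2 x0 hx0
      rw [h5, mul_inv_cancel_right]
    have h5 : x0 * y * x0⁻¹ = e * ξ0 * y := by
      rw [← hk0]
      group
    have h6 : x0 * (y * yt⁻¹) * x0⁻¹ = e * ξ0 * y * (z * yt)⁻¹ := by
      rw [← h5, ← hx0t]
      group
    rw [h6] at h4
    -- `e ξ0 = z`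
    have h7 : e * ξ0 = z := by
      have h8 : e * ξ0 * y * (z * yt)⁻¹ = e * ξ0 * z⁻¹ * (y * yt⁻¹) := by
        have h9 : y * yt⁻¹ * z⁻¹ = z⁻¹ * (y * yt⁻¹) := hEc _ (mul_mem hy (inv_mem ytE)) _ (inv_mem hz)
        calc e * ξ0 * y * (z * yt)⁻¹ = e * ξ0 * (y * yt⁻¹ * z⁻¹) := by group
          _ = e * ξ0 * z⁻¹ * (y * yt⁻¹) := by rw [h9]; group
      rw [h8] at h4
      have h9 : e * ξ0 * z⁻¹ = 1 := mul_right_cancel (b := y * yt⁻¹) (by rw [h4, one_mul])
      exact mul_inv_eq_one.1 h9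
    have h8 : t * (e * ξ0) * t⁻¹ = e * z * ξ0 := by
      calc t * (e * ξ0) * t⁻¹ = (t * e * t⁻¹) * (t * ξ0 * t⁻¹) := by group
        _ = e * z * ξ0 := by rw [hte, hXt ξ0 hξ0]
    have h9 : t * z * t⁻¹ = z := by rw [htz, mul_inv_cancel_right]
    rw [h7, h9] at h8
    -- `z = e z ξ0 = z (e ξ0) = z z = 1`
    have h10 : e * z * ξ0 = z * (e * ξ0) := by rw [hEc e heE z hz]; group
    rw [h10, h7, sqE z hz] at h8
    exact z1 h8

end Cfsg.Agent.Omega.EDel.LamZJ
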