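import Cfsg.Agent.Omega.EDel.Bx.ZJFr
import Cfsg.Agent.Omega.EDel.Bx.LamZJ
import Cfsg.Agent.Omega.EDel.Bx.AODef

/-!
# LEMMA ZJ+ (helper285 #25856, helper271 #26119), `q = 2`

* `ZJF.step` : `n ∈ Ω₁Z(J(O))`, `[n, B] ≤ ZJ` ⇒ `[n, Q] ≤ Z^j` (helper8's `LamZJ.step2` for `ρ n ρ⁻¹`);
* **`ZJF.LJ_le_ZJ`** : `Ω₁Z(J(O)) ≤ ZJ`;
* **`ZJF.jO`** : the field `jO` of helper23's `AOF.AO`;
* `ZJF.WJ`, **`ZJF.toAO`** : the frame `AOF.AO`.
-/

set_option autoImplicit false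
set_option linter.unusedSectionVars false

namespace Cfsg.Agent.Omega.EDel.ZJFr

open Subgroup Cfsg Cfsg.Agent.ZN.ChoiceBase
open Cfsg.Agent.ZN (zc zl o2)
open Cfsg.Agent.ZN.ChoiceSit (Syl o2_le_syl syl_conj)
open Cfsg.Agent.Omega.EK3 (Yc mem_Yc Nc Y_norm_V Y_norm_N)
open Cfsg.Agent.Omega.KL.TwoS (Mx)
open Cfsg.Agent.Omega.EDel.ZJBase
open Cfsg.Agent.MinSimple.VModule (zc_le normalizer_le_normalizer_zc le_normalizer_o2 o2_isPGroup le_o2 o2_le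
  le_centralizer_zc)
open scoped Pointwise

universe u

variable {G : Type u} [Group G]

/-- `Ω₁Z(O) ≤ Ω₁Z(J(O))` -/
theorem zc_le_LJ [Finite G] (O : Subgroup G) : zc O ≤ LJ O := by
  intro x hx
  obtain ⟨h1, h2, h3⟩ := mem_zc.1 hx
  exact ⟨h1, h2, fun A hA => mem_centralizer_iff.2 fun a ha => h3 a (hA.le ha)⟩

namespace ZJF

variable [Finite G] {B ZJ Q : Subgroup G} {ι : Type} {W : ι → Subgroup G} {z : ι → G}
  (h : ZJF B ZJ Q W z)
include h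

/-- `B` normalises `Q` -/
theorem B_norm_Q : B ≤ normalizer (Q : Set G) := by
  have key : ∀ b ∈ B, ∀ g ∈ Q, b * g * b⁻¹ ∈ Q := by
    intro b hb g hg
    refine h.BQ _ (mul_mem (mul_mem hb (h.QB hg)) (inv_mem hb)) fun i => ?_
    rw [mem_centralizer_iff]
    intro x hx
    -- `b⁻¹ x b ∈ W i`
    have h1 : b⁻¹ * x * b ∈ W i := by
      rcases h.BW i b⁻¹ (inv_mem hb) x hx with h2 | h2
      · rw [mul_inv_eq_one, inv_inv] at h2
        rw [h2]; exact hx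
      · rw [inv_inv] at h2
        rw [mul_inv_eq_iff_eq_mul.1 h2]
        exact mul_mem (h.zW i) hx
    have h2 := mem_centralizer_iff.1 (h.QW i hg) _ h1
    calc x * (b * g * b⁻¹) = b * (b⁻¹ * x * b * g) * b⁻¹ := by group
      _ = b * g * b⁻¹ * x := by rw [h2]; group
  intro b hb
  rw [mem_normalizer_iff]
  intro g
  refine ⟨key b hb g, fun h1 => ?_⟩
  have h2 := key b⁻¹ (inv_mem hb) _ h1
  have e : b⁻¹ * (b * g * b⁻¹) * b⁻¹⁻¹ = g := by group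
  rwa [e] at h2

/-- `m ∈ ZJ` ⇒ `m ∈ Z^j` or `z_j m ∈ Z^j` -/
theorem ZJ_cases (j : ι) {m : G} (hm : m ∈ ZJ) : m ∈ Xc z j ∨ ∃ x ∈ Xc z j, m = z j * x := by
  classical
  have zz := h.sqJ (h.zJ j)
  rw [pow_two] at zz
  have hX := h.Xc_le_ZJ j
  have hm' := h.gen hm
  clear hm
  induction hm' using closure_induction with
  | mem y hy =>
    obtain ⟨l, rfl⟩ := hy
    by_cases e : l = j
    · right
      exact ⟨1, one_mem _, by rw [e, mul_one]⟩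
    · exact Or.inl (mem_Xc e)
  | one => exact Or.inl (one_mem _)
  | mul a b ha hb iha ihb =>
    rcases iha with h3 | ⟨x, h3, rfl⟩ <;> rcases ihb with h4 | ⟨y, h4, rfl⟩
    · exact Or.inl (mul_mem h3 h4)
    · right
      refine ⟨a * y, mul_mem h3 h4, ?_⟩
      rw [← mul_assoc, ← mul_assoc, h.JJ (hX h3) (h.zJ j)]
    · right
      exact ⟨x * b, mul_mem h3 h4, mul_assoc _ _ _⟩
    · left
      have e : z j * x * (z j * y) = x * y := by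
        rw [h.JJ (h.zJ j) (hX h3), mul_assoc, ← mul_assoc (z j), zz, one_mul]
      rw [e]
      exact mul_mem h3 h4
  | inv a ha iha =>
    rcases iha with h3 | ⟨x, h3, rfl⟩
    · exact Or.inl (inv_mem h3)
    · right
      refine ⟨x⁻¹, inv_mem h3, ?_⟩
      have ez : (z j)⁻¹ = z j := inv_eq_of_mul_eq_one_right zz
      rw [mul_inv_rev, ez, h.JJ (inv_mem (hX h3)) (h.zJ j)]

/-- **one block** -/
theorem step (hML : ML.Final.MLK.{u, u}) (kg : ∀ j, IsKGroup (Yc z j)) {n : G}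
    (hn : n ∈ LJ (o2 (centralizer (ZJ : Set G)))) (hB : ∀ b ∈ B, b * n * b⁻¹ * n⁻¹ ∈ ZJ) (j : ι) :
    ∀ g ∈ Q, g * n * g⁻¹ * n⁻¹ ∈ Xc z j := by
  have D := h.toOne kg j
  obtain ⟨ρ, hρQ, hρz, hρW, hρne⟩ := h.rho j
  obtain ⟨A, hA, hAj, hAl⟩ := h.ab j
  obtain ⟨t, ht, htj⟩ : ∃ t ∈ A, t ∉ centralizer (W j : Set G) := by
    by_contra hcon
    push Not at hcon
    exact hAj hcon
  have hAB : A ≤ B := hA.le.trans h.O_le_B
  have hρY : ρ ∈ Yc z j := mem_Yc.2 hρz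
  set e := ρ * z j * ρ⁻¹ with he
  have he1 : e ≠ 1 := fun h1 => h.ne j (conj_eq_one_iff.1 h1)
  have heN : e ∈ NoFF.Basic.V (zpowers (z j)) (Yc z j) :=
    NoFF.Basic.Z_le_V (Z := zpowers (z j)) hρY ⟨z j, mem_zpowers _, rfl⟩
  have hzE : z j ∈ LJ (o2 (Yc z j)) := zc_le_LJ _ D.zQ
  have hXE : Xc z j ≤ LJ (o2 (Yc z j)) := D.XQ.trans (zc_le_LJ _)
  have hYE : Yc z j ≤ normalizer (LJ (o2 (Yc z j)) : Set G) := (le_normalizer_o2 _).trans (LJ_norm _)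
  have hnE : n ∈ LJ (o2 (Yc z j)) := D.LJ_le hML hn
  have hyE : ρ * n * ρ⁻¹ ∈ LJ (o2 (Yc z j)) := (mem_normalizer_iff.1 (hYE hρY) n).1 hnE
  have mv : ∀ a ∈ A, a ∉ centralizer (W j : Set G) → a * e * a⁻¹ = e * z j := by
    intro a ha haj
    rw [h.mv_of j (hAB ha) haj hρW he1 hρne]
    have h1 := h.sqW j e hρW
    have h2 := mem_centralizer_iff.1
      ((KL.TwoS.comm_of_sq (h.sqW j)) (h.zW j)) e hρW
    exact h2.symm
  have cj_of : ∀ a ∈ A, a * e = e * a → a ∈ centralizer (W j : Set G) := by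
    intro a ha hae
    by_contra hcon
    have h1 := mv a ha hcon
    rw [hae, mul_inv_cancel_right] at h1
    exact h.ne j (mul_eq_left.1 h1.symm)
  have main := LamZJ.step2 (O := o2 (centralizer (ZJ : Set G))) (E := LJ (o2 (Yc z j)))
    (N := NoFF.Basic.V (zpowers (z j)) (Yc z j)) (X := Xc z j) (Q := Q) (A := A) (t := t) (z := z j) (e := e)
    (y := ρ * n * ρ⁻¹) hA ((LJ_le _).trans D.Q_le) (fun x hx => hx.2.1) D.N_le_LJ (D.E_sup hML hA)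
    ((hAB.trans (h.B_le j)).trans hYE) ht heN hzE (mv t ht htj) ((h.mem_J (h.zJ j)).2.2 t (hAB ht))
    (fun g hg => (h.mem_J (h.zJ j)).2.2 g (h.QB hg)) (h.not_mem_Xc j)
    (fun x hx a ha => (h.mem_J (h.Xc_le_ZJ j hx)).2.2 a (hAB ha)) hXE
    (fun a ha => by
      by_cases h1 : a ∈ centralizer (W j : Set G)
      · left
        exact (mem_centralizer_iff.1 h1 e hρW).symm
      · exact Or.inr (mv a ha h1))
    (fun a ha hae => h.BQ a (hAB ha) fun i => by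
      by_cases hi : i = j
      · subst hi
        exact cj_of a ha hae
      · exact hAl i hi ha)
    (h.B_norm_Q (hAB ht))
    (fun A' hA' w hw hX => D.k3 hML hA' hw hX) hyE
    (fun g hg => by
      have h1 : ρ⁻¹ * g * ρ ∈ Q := by
        have := (mem_normalizer_iff.1 (inv_mem hρQ) g).1 hg
        rwa [inv_inv] at this
      have h2 := hB _ (h.QB h1)
      have e1 : g * (ρ * n * ρ⁻¹) * g⁻¹ * (ρ * n * ρ⁻¹)⁻¹ =
          ρ * ((ρ⁻¹ * g * ρ) * n * (ρ⁻¹ * g * ρ)⁻¹ * n⁻¹) * ρ⁻¹ := by group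
      rw [e1]
      have cX : ∀ x ∈ Xc z j, ρ * x * ρ⁻¹ = x := fun x hx => by
        rw [mem_centralizer_iff.1 (Xc_le_cent z j hx) ρ hρY, mul_inv_cancel_right]
      rcases h.ZJ_cases j h2 with h3 | ⟨x, hx, h3⟩
      · left
        rw [cX _ h3]
        exact h3
      · right
        refine ⟨x, hx, ?_⟩
        rw [h3]
        calc ρ * (z j * x) * ρ⁻¹ = ρ * z j * ρ⁻¹ * (ρ * x * ρ⁻¹) := by group
          _ = e * x := by rw [cX x hx])
  intro g hg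
  have h1 : ρ * g * ρ⁻¹ ∈ Q := (mem_normalizer_iff.1 hρQ g).1 hg
  have h2 := main _ h1
  have e1 : (ρ * g * ρ⁻¹) * (ρ * n * ρ⁻¹) * (ρ * g * ρ⁻¹)⁻¹ * (ρ * n * ρ⁻¹)⁻¹ = ρ * (g * n * g⁻¹ * n⁻¹) * ρ⁻¹ := by
    group
  rw [e1] at h2
  have h3 := mem_centralizer_iff.1 (Xc_le_cent z j h2) ρ hρY
  have e2 : ρ * (g * n * g⁻¹ * n⁻¹) * ρ⁻¹ = g * n * g⁻¹ * n⁻¹ := by
    have h4 : ρ * (ρ * (g * n * g⁻¹ * n⁻¹) * ρ⁻¹) = ρ * (g * n * g⁻¹ * n⁻¹) := by rw [h3]; group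
    exact mul_left_cancel h4
  rwa [e2] at h2

/-- **LEMMA ZJ+** : `Ω₁Z(J(O)) ≤ ZJ` -/
theorem LJ_le_ZJ (hML : ML.Final.MLK.{u, u}) (kg : ∀ j, IsKGroup (Yc z j)) :
    LJ (o2 (centralizer (ZJ : Set G))) ≤ ZJ := by
  by_contra hne
  obtain ⟨n, hn, hnZ, hB⟩ := h.exists_fix hne
  apply hnZ
  refine h.mem_of_Q hn fun g hg => ?_
  have h1 := h.inter (hB g (h.QB hg)) fun j => h.step hML kg hn hB j g hg
  rw [mul_inv_eq_one] at h1
  calc g * n = g * n * g⁻¹ * g := by group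
    _ = n * g := by rw [h1]

/-- **the field `jO` of `AOF.AO`** -/
theorem jO (hML : ML.Final.MLK.{u, u}) (kg : ∀ j, IsKGroup (Yc z j)) :
    ∀ x ∈ o2 (centralizer (ZJ : Set G)), x ^ 2 = 1 →
      (∀ A : Subgroup G, Mx (o2 (centralizer (ZJ : Set G))) A → ∀ a ∈ A, a * x = x * a) → x ∈ ZJ :=
  fun _ h1 h2 h3 => h.LJ_le_ZJ hML kg ⟨h1, h2, fun A hA => mem_centralizer_iff.2 fun a ha => h3 A hA a ha⟩

/-- `W i ∩ ZJ = ⟨z i⟩` -/
theorem WJ (i : ι) {x : G} (hx : x ∈ W i) (hxJ : x ∈ ZJ) : x = 1 ∨ x = z i := by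
  by_contra hcon
  push Not at hcon
  obtain ⟨A, hA, hAi, -⟩ := h.ab i
  obtain ⟨t, ht, hti⟩ : ∃ t ∈ A, t ∉ centralizer (W i : Set G) := by
    by_contra hcon
    push Not at hcon
    exact hAi hcon
  have htB := h.O_le_B (hA.le ht)
  have h1 := h.mv_of i htB hti hx hcon.1 hcon.2
  rw [(h.mem_J hxJ).2.2 t htB, mul_inv_cancel_right] at h1
  exact h.ne i (mul_eq_right.1 h1.symm)

/-- **the frame of the left case** -/
theorem toAO (hML : ML.Final.MLK.{u, u}) (kg : ∀ j, IsKGroup (Yc z j)) (WB : ∀ i, W i ≤ B)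
    (three : ∀ i j : ι, ∃ l, l ≠ i ∧ l ≠ j) : AOF.AO B ZJ W z where
  c2 := h.c2
  two := h.two
  syl := h.syl
  zcB := h.zcB
  zJ := h.zJ
  gen := h.gen
  ne := h.ne
  inj := h.inj
  zW := h.zW
  WB := WB
  cardW := h.cardW
  sqW := h.sqW
  WJ := fun i _ hx hxJ => h.WJ i hx hxJ
  BW := h.BW
  rho := fun i => by
    obtain ⟨ρ, -, h1, h2, h3⟩ := h.rho i
    exact ⟨ρ, h1, h2, h3⟩
  perm := h.perm
  jO := h.jO hML kg
  mv := fun i => by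
    obtain ⟨A, h1, h2, -⟩ := h.ab i
    exact ⟨A, h1, h2⟩
  three := three

end ZJF

end Cfsg.Agent.Omega.EDel.ZJFr
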