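import Cfsg.Agent.Omega.EDel.Bx.AODef
import Cfsg.Agent.Omega.EDel.Bx.Final

/-!
# The level-free frame `AO` gives the universal frame `Bx` (with `J := B`), `q = 2`

`par` (UNI over `B`) = helper23's #25626 (`Exch.lean`, `AOPar.lean`); here it is an input.

* `AO.toBx` : `AO B ZJ W z` and `par` give `Bx B B ZJ W z`;
* `AO.false_of` : THEOREM U over `AO`.
-/

set_option autoImplicit false

namespace Cfsg.Agent.Omega.EDel.AOF

open Subgroup Cfsg
open Cfsg.Agent.ZN (zc zl o2)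
open Cfsg.Agent.ZN.ChoiceSit (Syl)
open Cfsg.Agent.Omega.EK3 (CT Yc)
open Cfsg.Agent.MinSimple.MinParabolic (IsMinPar)
open Cfsg.Agent.MinSimple.VModule (normalizer_le_normalizer_zc)
open Cfsg.Agent.Omega.EDel.BxF (Bx)

universe u

variable {G : Type u} [Group G]

namespace AO

variable [Finite G] {B ZJ : Subgroup G} {ι : Type} {W : ι → Subgroup G} {z : ι → G} (h : AO B ZJ W z)
include h

/-- **`AO` and `par` give the universal frame over `B`.** -/
theorem toBx
    (par : ∀ R : Subgroup G, (∃ l, R ≤ centralizer ({z l} : Set G)) → IsMinPar B R → Syl B R →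
      R ⊓ centralizer (o2 R : Set G) ≤ o2 R → ¬ B ≤ o2 R → ¬ R ≤ centralizer (ZJ : Set G) →
      ∃ i, R ≤ normalizer (W i : Set G) ∧ ∀ l, l ≠ i → R ≤ centralizer ({z l} : Set G)) :
    Bx B B ZJ W z where
  c2 := h.c2
  two := h.two
  syl := h.syl
  zcB := h.zcB
  zJ := h.zJ
  gen := h.gen
  ne := h.ne
  inj := h.inj
  zW := h.zW
  WB := h.WB
  cardW := h.cardW
  sqW := h.sqW
  WJ := h.WJ
  BW := h.BW
  rho := h.rho
  perm := h.perm
  nJ := fun T _ h1 h2 => by
    have e : T = B := le_antisymm h2 h1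
    subst e
    rw [← h.zcB]
    exact normalizer_le_normalizer_zc T
  par := par
  three := h.three

/-- **THEOREM U** over `AO` and `par` -/
theorem false_of [Finite ι] [Nonempty ι] (hML : ML.Final.MLK.{u, u}) (hE : ML.Ex.Two.Ext.{u, u})
    (par : ∀ R : Subgroup G, (∃ l, R ≤ centralizer ({z l} : Set G)) → IsMinPar B R → Syl B R →
      R ⊓ centralizer (o2 R : Set G) ≤ o2 R → ¬ B ≤ o2 R → ¬ R ≤ centralizer (ZJ : Set G) →
      ∃ i, R ≤ normalizer (W i : Set G) ∧ ∀ l, l ≠ i → R ≤ centralizer ({z l} : Set G))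
    (kg : ∀ T : Set ι, T.Nonempty → IsKGroup (CT z T))
    (nl : ∀ R : Subgroup G, R ≠ ⊥ → IsPGroup 2 R → ¬ ∀ j, Yc z j ≤ normalizer (R : Set G)) : False :=
  (h.toBx par).false_of hML hE kg nl

end AO

end Cfsg.Agent.Omega.EDel.AOF
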