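import Cfsg.Agent.Omega.EDel.Bx.Base
import Cfsg.Agent.Omega.TC.OfMul

/-!
# The universal frame over `B`, `q = 2`, from the frame `Fg`

* `Bx.of_fg'` : `Fg B Q V ZJ L W Z C 2`, `LB S K B ZJ`, `N_G(B)` permutes the `Z i`, block generation and UNI+ inside the
  `C_G(Z l)`, at least three blocks;
* `Bx.of_fg` : the same with `BlkS K B B` and UNI+ for all FF-blocks over `B`.
-/

set_option autoImplicit false
set_option linter.unusedSectionVars false

namespace Cfsg.Agent.Omega.EDel.BxF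

open Subgroup Cfsg Cfsg.Agent.ZN.ChoiceBase
open Cfsg.Agent.ZN (zc zl o2)
open Cfsg.Agent.ZN.ChoiceSit (Syl o2_le_syl)
open Cfsg.Agent.Omega.OM Cfsg.Agent.Omega.OM.Uni
open Cfsg.Agent.Omega.NO3S.EThree.Frame
open Cfsg.Agent.Omega.Node.MultiOf (FBl)
open Cfsg.Agent.MinSimple.MinParabolic (IsMinPar)
open scoped Pointwise

universe u

variable {G : Type u} [Group G]

theorem Fg_exists_mv [Finite G] {ι : Type} {B Q V ZJ : Subgroup G} {L W Z C : ι → Subgroup G} {q : ℕ}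
    (h : Fg B Q V ZJ L W Z C q) (i : ι) : ∃ l ∈ L i, cj l (Z i) ≠ Z i := by
  have hb := h.blk i
  obtain ⟨k, hk, hs⟩ := hb.sup
  refine ⟨k, hk, fun e => ?_⟩
  have h2 : ⁅W i, B⁆ ≤ Z i := hb.comm_le le_rfl
  have h3 : W i ≤ Z i := hs.trans (sup_le h2 ((cj_mono k h2).trans e.le))
  have h4 := Subgroup.card_le_of_le h3
  rw [hb.card] at h4
  have h5 : 0 < Nat.card (Z i) := Nat.card_pos
  have h6 := hb.one
  nlinarith

/-- `ZJ` is generated by the `Z i` -/
theorem Fg_ZJ_le {ι : Type} [Finite ι] {B Q V ZJ : Subgroup G} {L W Z C : ι → Subgroup G} {q : ℕ}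
    (h : Fg B Q V ZJ L W Z C q) : ZJ ≤ ⨆ i, Z i := by
  classical
  cases nonempty_fintype ι
  have key : ∀ s : Finset ι, ∀ x ∈ ZJ, ∃ w ∈ (⨆ i, Z i), w ∈ ZJ ∧ ∀ i ∈ s, w⁻¹ * x ∈ C i := by
    intro s
    induction s using Finset.induction_on with
    | empty => exact fun x _ => ⟨1, one_mem _, one_mem _, fun i hi => by simp at hi⟩
    | insert j s hj ih =>
      intro x hx
      obtain ⟨w, hw, hwJ, hwC⟩ := ih x hx
      obtain ⟨a, ha, c, hc, hcJ, e⟩ := h.split_ZJ j (mul_mem (inv_mem hwJ) hx)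
      refine ⟨w * a, mul_mem hw ((le_iSup Z j) ha), mul_mem hwJ (h.Z_le j ha), fun i hi => ?_⟩
      have e1 : (w * a)⁻¹ * x = a⁻¹ * (w⁻¹ * x) := by group
      rw [e1]
      rcases Finset.mem_insert.1 hi with rfl | hi
      · rw [e]
        have : a⁻¹ * (a * c) = c := by group
        rw [this]
        exact hc
      · have hij : i ≠ j := fun e => hj (e ▸ hi)
        exact mul_mem (inv_mem (h.WjC i j hij ((h.blk j).ZV ha))) (hwC i hi)
  intro x hx
  obtain ⟨w, hw, hwJ, hwC⟩ := key Finset.univ x hx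
  have h1 := h.C0 (w⁻¹ * x) (mul_mem (inv_mem (h.ZJV hwJ)) (h.ZJV hx)) fun i => hwC i (Finset.mem_univ i)
  have h2 : x = w := (inv_mul_eq_one.1 h1).symm
  rw [h2]
  exact hw

/-- a group of order 2 -/
theorem exists_gen_two [Finite G] {Z : Subgroup G} (h : Nat.card Z = 2) : ∃ v, v ≠ 1 ∧ ∀ x, x ∈ Z ↔ x = 1 ∨ x = v :=
  TC.OfBg.exists_gen h

/-- **The universal frame from `Fg`.** -/
theorem of_fg' [Finite G] {ι : Type} [Finite ι] {S : Sylow 2 G} {K B ZJ Q V : Subgroup G} {L W Z C : ι → Subgroup G}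
    (c2 : IsCharacteristicTwoType G) (lb : LevD.LB S K B ZJ) (fr : Fg B Q V ZJ L W Z C 2)
    (perm : ∀ g ∈ normalizer (B : Set G), ∀ i, ∃ j, cj g (Z i) = Z j)
    (hb : ∀ R : Subgroup G, (∃ l, R ≤ centralizer (Z l : Set G)) → IsMinPar B R → Syl B R →
      R ⊓ centralizer (o2 R : Set G) ≤ o2 R → ¬ K ≤ o2 R → ¬ R ≤ centralizer (zc B : Set G) →
      ∃ i, R ≤ L i ⊔ centralizer ((W i ⊔ ZJ : Subgroup G) : Set G) ⊔ B)
    (three : ∀ i j : ι, ∃ l, l ≠ i ∧ l ≠ j) :
    ∃ z : ι → G, (∀ i x, x ∈ Z i ↔ x = 1 ∨ x = z i) ∧ Bx B K ZJ W z := by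
  have h1 : ∀ i, ∃ v, v ≠ 1 ∧ ∀ x, x ∈ Z i ↔ x = 1 ∨ x = v := fun i => exists_gen_two (fr.cardZ i)
  choose z hz1 hz using h1
  have hzZ : ∀ i, z i ∈ Z i := fun i => (hz i _).2 (Or.inr rfl)
  have hzW : ∀ i, z i ∈ W i := fun i => (fr.blk i).ZV (hzZ i)
  have hzJ : ∀ i, z i ∈ ZJ := fun i => fr.Z_le i (hzZ i)
  have hnW : ∀ i, L i ≤ normalizer (W i : Set G) := fun i l hl => by
    rw [mem_normalizer_iff_cj]
    refine Subgroup.eq_of_le_of_card_ge ?_ (by rw [card_cj])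
    rintro _ ⟨w, hw, rfl⟩
    exact (fr.blk i).nV l hl w hw
  have hzC : ∀ i j, i ≠ j → z j ∈ C i := fun i j hij => fr.WjC i j hij (hzW j)
  refine ⟨z, hz, ?_⟩
  exact
    { c2 := c2
      two := lb.Bp
      syl := lb.syl
      zcB := fr.zcB
      zJ := hzJ
      gen := by
        refine (Fg_ZJ_le fr).trans (iSup_le fun i x hx => ?_)
        rcases (hz i x).1 hx with rfl | rfl
        · exact one_mem _
        · exact subset_closure ⟨i, rfl⟩
      ne := hz1
      inj := by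
        intro i j e
        by_contra hij
        have h2 : z i ∈ W i ⊓ C i := ⟨hzW i, e ▸ hzC i j hij⟩
        rw [fr.dir i, mem_bot] at h2
        exact hz1 i h2
      zW := hzW
      WB := fun i => (fr.WV i).trans fr.VB
      cardW := fun i => by rw [(fr.blk i).card, fr.cardZ i]
      sqW := fun i x hx => fr.Vsq (fr.WV i hx)
      WJ := fun i x hx hxJ => (hz i x).1 ((fr.blk i).toMd.mem_Z_iff.2 ⟨hx, ((fr.mem_ZJ x).1 hxJ).2⟩)
      BW := fun i b hb' x hx => (hz i _).1 ((fr.blk i).com b hb' x hx)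
      rho := by
        intro i
        obtain ⟨l, hl, hmv⟩ := Fg_exists_mv fr i
        refine ⟨l, fun m hm => fr.LC i l hl (z m) (hzJ m) (hzC i m hm.symm), (fr.blk i).nV l hl _ (hzW i),
          fun e => hmv ?_⟩
        refine Subgroup.eq_of_le_of_card_ge ?_ (card_cj _ _).ge
        rintro _ ⟨x, hx, rfl⟩
        rcases (hz i x).1 hx with rfl | rfl
        · simp
        · change l * z i * l⁻¹ ∈ Z i
          rw [e]
          exact hzZ i
      perm := by
        intro g hg i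
        obtain ⟨j, hj⟩ := perm g hg i
        refine ⟨j, ?_⟩
        have h2 : g * z i * g⁻¹ ∈ Z j := by
          rw [← hj]
          exact ⟨z i, hzZ i, rfl⟩
        rcases (hz j _).1 h2 with h3 | h3
        · exact absurd (conj_eq_one_iff.1 h3) (hz1 i)
        · exact h3
      nJ := fun T hT hK _ => lb.nrm T hT hK
      par := by
        rintro R ⟨l, hl⟩ hR hT hc hK hJ
        obtain ⟨i, hi⟩ := hb R ⟨l, by
          intro r hr
          rw [mem_centralizer_iff]
          intro x hx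
          rcases (hz l x).1 hx with rfl | rfl
          · simp
          · exact (mem_centralizer_singleton_iff.1 (hl hr)).symm⟩ hR hT hc hK (by rw [fr.zcB]; exact hJ)
        refine ⟨i, hi.trans (sup_le (sup_le (hnW i) ?_) ?_), fun m hm => hi.trans (sup_le (sup_le ?_ ?_) ?_)⟩
        · refine le_trans (centralizer_le ?_) (centralizer_le_normalizer _)
          exact_mod_cast (le_sup_left : W i ≤ W i ⊔ ZJ)
        · exact (fr.blk i).BL.trans (hnW i)
        · exact fun x hx => mem_centralizer_singleton_iff.2 (fr.LC i x hx (z m) (hzJ m) (hzC i m hm.symm))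
        · exact centralizer_le (Set.singleton_subset_iff.2 (mem_sup_right (hzJ m)))
        · exact lb.Bc.trans (centralizer_le (Set.singleton_subset_iff.2 (hzJ m)))
      three := three }

/-- **The universal frame from `Fg`, `BlkS` and UNI+.** -/
theorem of_fg [Finite G] {ι : Type} [Finite ι] {S : Sylow 2 G} {K B ZJ Q V : Subgroup G} {L W Z C : ι → Subgroup G}
    (c2 : IsCharacteristicTwoType G) (lb : LevD.LB S K B ZJ) (fr : Fg B Q V ZJ L W Z C 2)
    (perm : ∀ g ∈ normalizer (B : Set G), ∀ i, ∃ j, cj g (Z i) = Z j)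
    (uni : ∀ L' V' : Subgroup G, FBl B L' V' → ∃ i, L' ≤ L i ⊔ centralizer ((W i ⊔ ZJ : Subgroup G) : Set G))
    (blk : TC.OfMul.BlkS K B B) (three : ∀ i j : ι, ∃ l, l ≠ i ∧ l ≠ j) :
    ∃ z : ι → G, (∀ i x, x ∈ Z i ↔ x = 1 ∨ x = z i) ∧ Bx B K ZJ W z := by
  refine of_fg' c2 lb fr perm (fun R _ hR hT hc hK hZ => ?_) three
  obtain ⟨L', V', h1, -, h2⟩ := blk R hR hT hc hK hZ
  obtain ⟨i, hi⟩ := uni L' V' h1
  exact ⟨i, h2.trans (sup_le_sup_right hi B)⟩

end Cfsg.Agent.Omega.EDel.BxF
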