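import Cfsg.Agent.Omega.EDel.Bx.OfLine
import Cfsg.Agent.Omega.NOThreeL.RRed.BFr.VSup
import Cfsg.Agent.Omega.TC.UniLev
import Cfsg.Agent.Omega.OM.Lev.Main

/-!
# Box R, at least three blocks over `B = BL S n` (stage `n ≥ 0`), `q = 2`: THEOREM U

* `LowC S n Z` : the minimal parabolics over `B` inside a `C_G(Z l)` which move `Ω₁Z(B)` have stage `≥ n`;
* `exists_bx_lev` : `FrL` and `LowC` give the frame `Bx`;
* `false_lev` (over `FrL`, `V = V*`, `L i ≤ MZ S`), `false_lnv` (over `LnV`): THEOREM U in box R.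
-/

set_option autoImplicit false
set_option linter.unusedSectionVars false

namespace Cfsg.Agent.Omega.EDel.BxF

open Subgroup Cfsg Cfsg.Agent.ZN.ChoiceBase
open Cfsg.Agent.ZN (zc zl o2)
open Cfsg.Agent.ZN.ChoiceSit (Syl o2_le_syl)
open Cfsg.Agent.Omega.OM Cfsg.Agent.Omega.OM.Uni
open Cfsg.Agent.Omega.OM.SwapL (ZL BL)
open Cfsg.Agent.Omega.OM.SwapV.Lv (LnV)
open Cfsg.Agent.Omega.OM.Lev.Uni (FrL)
open Cfsg.Agent.Omega.NO3S.Level (lev lev_isLev)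
open Cfsg.Agent.Omega.NO3S.EThree.Frame
open Cfsg.Agent.Omega.EK3 (CT mem_CT Yc mem_Yc)
open Cfsg.Agent.Omega.MinPar (IsParS)
open Cfsg.Agent.Omega.NOThreeL.RTree (RB)
open Cfsg.Agent.Omega.NOThreeL.Merge (MZ)
open Cfsg.Agent.Omega.NOThreeL.RRed.BFr
open Cfsg.Agent.Omega.NOThreeL.RRed (Wd)
open Cfsg.Agent.MinSimple.MinParabolic (IsMinPar)

universe u

variable {G : Type u} [Group G] [Finite G]

/-- **No minimal parabolic of smaller stage over `B` inside a `C_G(Z l)` moves `Ω₁Z(B)`.** -/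
def LowC (S : Sylow 2 G) (n : ℕ) {ι : Type} (Z : ι → Subgroup G) : Prop :=
  ∀ R : Subgroup G, (∃ l, R ≤ centralizer (Z l : Set G)) → IsMinPar (BL (S : Subgroup G) n) R →
    Syl (BL (S : Subgroup G) n) R → R ⊓ centralizer (o2 R : Set G) ≤ o2 R →
    ¬ R ≤ centralizer (zc (BL (S : Subgroup G) n) : Set G) → lev (S : Subgroup G) n ≤ o2 R

variable {ι : Type} [Finite ι] {S : Sylow 2 G} {n : ℕ} {Q V : Subgroup G} {L W Z C A : ι → Subgroup G}

/-- **The universal frame at stage `n`.** -/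
theorem exists_bx_lev (hG : IsCharacteristicTwoType G)
    (fr : FrL (BL (S : Subgroup G) n) Q V (zc (lev (S : Subgroup G) n)) (ZL (S : Subgroup G) n) L W Z C A 2)
    (LL : LowC S n Z) (h3 : ∀ i j : ι, ∃ l, l ≠ i ∧ l ≠ j) :
    ∃ z : ι → G, (∀ i x, x ∈ Z i ↔ x = 1 ∨ x = z i) ∧
      Bx (BL (S : Subgroup G) n) (lev (S : Subgroup G) (n + 1)) (ZL (S : Subgroup G) n) W z := by
  have lb := SwapL.lb S n
  have eqB : BL (S : Subgroup G) n =
      (S : Subgroup G) ⊓ centralizer (zc (lev (S : Subgroup G) (n + 1)) : Set G) := rfl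
  refine of_fg' hG lb (Lev.Main.toFg fr) (fun g hg i => ?_) (fun R hl hR hT hc hK hZ => ?_) h3
  · obtain ⟨j, hj, -⟩ := (fr.norm_of hg (NO3S.Level.normalizer_le_zc _
      (Lev.Wc.norm_B_Lev (lev_isLev (S : Subgroup G) n) eqB hg))).2 i
    exact ⟨j, hj⟩
  · obtain ⟨L', V', h1, ⟨h2, h3⟩, h4⟩ := LevB.exists_fblk S (n := n) hT le_rfl hR hc (LL R hl hR hT hc hZ) hK hZ
    obtain ⟨-, -, i, -, -, -, -, h5⟩ := TC.UniLev.uni_all S rfl eqB fr ⟨h2, h3⟩
    exact ⟨i, h4.trans ((sup_comm _ _).le.trans (sup_le_sup_right (h5 rfl).2 _))⟩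

/-- the conclusion from `nl` -/
theorem false_of_nl (hML : ML.Final.MLK.{u, u}) (hE : ML.Ex.Two.Ext.{u, u}) (B : RB S)
    (fr : FrL (BL (S : Subgroup G) n) Q V (zc (lev (S : Subgroup G) n)) (ZL (S : Subgroup G) n) L W Z C A 2)
    (LL : LowC S n Z) (h3 : ∀ i j : ι, ∃ l, l ≠ i ∧ l ≠ j) [Nonempty ι]
    (nl : ∀ R : Subgroup G, IsPGroup 2 R → centralizer (ZL (S : Subgroup G) n : Set G) ≤ normalizer (R : Set G) →
      (∀ i, L i ≤ normalizer (R : Set G)) → R = ⊥) : False := by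
  obtain ⟨z, hz, hb⟩ := exists_bx_lev B.ctx.char2 fr LL h3
  refine hb.false_of hML hE (kg_of B.ctx hb.ne) fun R hR hR2 hall => hR ?_
  obtain ⟨i⟩ := ‹Nonempty ι›
  refine nl R hR2 ((hb.D_le i).trans (hall i)) fun j => le_trans ?_ (hall j)
  intro l hl
  refine mem_Yc.2 fun m hm => ?_
  exact fr.LC j l hl (z m) (hb.zJ m) (fr.WjC j m hm.symm (hb.zW m))

/-- **THEOREM U at stage `n` in box R**, over `FrL`, `V = V*`. -/
theorem false_lev (hML : ML.Final.MLK.{u, u}) (hE : ML.Ex.Two.Ext.{u, u}) (B : RB S)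
    (fr : FrL (BL (S : Subgroup G) n) Q (Wd (S : Subgroup G)) (zc (lev (S : Subgroup G) n)) (ZL (S : Subgroup G) n)
      L W Z C A 2) (hL : ∀ i, L i ≤ MZ (S : Subgroup G)) (LL : LowC S n Z)
    (h3 : ∀ i j : ι, ∃ l, l ≠ i ∧ l ≠ j) [Nonempty ι] : False :=
  false_of_nl hML hE B fr LL h3 fun _ hR hD hLR => VSup.nl_lev B fr hL hR hD hLR

/-- **THEOREM U at stage `n` in box R**, over `LnV`. -/
theorem false_lnv (hML : ML.Final.MLK.{u, u}) (hE : ML.Ex.Two.Ext.{u, u}) (B : RB S)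
    (h : LnV S V Q n L W Z C A)
    (hall : ∀ R : Subgroup G, IsParS (S : Subgroup G) R → lev (S : Subgroup G) n ≤ o2 R) (LL : LowC S n Z)
    (h3 : ∀ i j : ι, ∃ l, l ≠ i ∧ l ≠ j) [Nonempty ι] : False :=
  false_of_nl hML hE B h.fr LL h3 fun _ hR hD hLR => NlLev.nl B hall h hR hD hLR

/-- **THEOREM U at stage `-1` in box R**, over `Fr`, `V = V*`. -/
theorem false_neg (hML : ML.Final.MLK.{u, u}) (hE : ML.Ex.Two.Ext.{u, u}) (B : RB S)
    (fr : Fr (ZN.bau (S : Subgroup G)) Q (Wd (S : Subgroup G)) (ZN.zj (S : Subgroup G)) L W Z C A 2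
      (mm (S : Subgroup G))) (hL : ∀ i, L i ≤ MZ (S : Subgroup G))
    (h3 : ∀ i j : ι, ∃ l, l ≠ i ∧ l ≠ j) [Nonempty ι] : False :=
  false_line hML hE B (VSup.lineV B fr hL fun i => by
    obtain ⟨l, hl, -⟩ := h3 i i
    exact ⟨l, hl⟩) h3

end Cfsg.Agent.Omega.EDel.BxF
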