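import Cfsg.Agent.Omega.KL.TwoS.Fr
import Cfsg.Agent.Omega.ML.Final

/-!
# LEMMA ZJ+, base (helper285 #25856 (0), (C), (K3); literal of #26356)

`Y` a K-group with Sylow 2-subgroup `B ≤ D = C_Y(z)`, `X` central in `Y`, `{g ∈ Y | [g, z] ∈ X} = D`,
`N = ⟨z^Y⟩ ≤ Ω₁Z(O₂(Y))`, `LJ O = Ω₁Z(J(O))`.

* `OneB.k3` : `w ∈ N`, `[w, A] ≤ X` for `A` of maximal order in `O₂(D)` ⟹ `[w, A] = 1`;
* `OneB.ex` : `A` is exact on `N`; `OneB.mx`, `OneB.sup_le_o2Y` : `C_A(N) N` is of maximal order and lies in `O₂(Y)`;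
* `OneB.LJ_le`, `OneB.N_le_LJ`, `OneB.E_sup`, `OneB.E_cent`, `LJ_norm`, `LJ_le_mem`.
-/

set_option autoImplicit false
set_option linter.unusedSectionVars false

namespace Cfsg.Agent.Omega.EDel.ZJBase

open Subgroup Cfsg
open Cfsg.Agent.ZN (o2 zc)
open scoped Pointwise
open Cfsg.Agent.ZN.ChoiceSit (Syl o2_le_syl syl_not_dvd)
open Cfsg.Agent.Omega.KL.TwoS (Mx comm_of_sq sq_sup relIndex_le_of_sup)
open Cfsg.Agent.Omega.ML.Final (MLK)
open Cfsg.Agent.Omega.NoFF.Basic (V Z_le_V V_le mem_conj comm_symm)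
open Cfsg.Agent.Omega.OM.KTwo (exists_mul_of_mem_sup le_normalizer_V)
open Cfsg.Agent.MinSimple.VModule (mem_zc zc_le o2_le o2_isPGroup le_o2 le_normalizer_o2 normalizer_le_normalizer_zc)
open Cfsg.Agent.Omega.TC.LemZ (card_eq)

universe u

variable {G : Type u} [Group G] [Finite G]

/-! ### `LJ O = Ω₁Z(J(O))` -/

theorem mem_of_mx {O A : Subgroup G} (hA : Mx O A) {x : G} (h1 : x ∈ O) (h2 : x ^ 2 = 1)
    (h3 : x ∈ centralizer (A : Set G)) : x ∈ A := by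
  have h4 : zpowers x ≤ A := by
    refine hA.le_of_comm (zpowers_le.2 h1) ?_ (zpowers_le.2 h3)
    intro b hb
    obtain ⟨k, rfl⟩ := mem_zpowers_iff.1 hb
    rw [← zpow_natCast, ← zpow_mul, mul_comm, zpow_mul, zpow_natCast, h2, one_zpow]
  exact h4 (mem_zpowers x)

/-- `Ω₁Z(J(O))` -/
def LJ (O : Subgroup G) : Subgroup G where
  carrier := {x | x ∈ O ∧ x ^ 2 = 1 ∧ ∀ A : Subgroup G, Mx O A → x ∈ centralizer (A : Set G)}
  one_mem' := ⟨one_mem _, one_pow _, fun _ _ => one_mem _⟩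
  mul_mem' := by
    rintro a b ⟨h1, h2, h3⟩ ⟨k1, k2, k3⟩
    refine ⟨mul_mem h1 k1, ?_, fun A hA => mul_mem (h3 A hA) (k3 A hA)⟩
    obtain ⟨A, hA⟩ := Mx.exists_mx O
    exact hA.sq _ (mul_mem (mem_of_mx hA h1 h2 (h3 A hA)) (mem_of_mx hA k1 k2 (k3 A hA)))
  inv_mem' := by
    rintro a ⟨h1, h2, h3⟩
    exact ⟨inv_mem h1, by rw [inv_pow, h2, inv_one], fun A hA => inv_mem (h3 A hA)⟩

theorem mem_LJ {O : Subgroup G} {x : G} :
    x ∈ LJ O ↔ x ∈ O ∧ x ^ 2 = 1 ∧ ∀ A : Subgroup G, Mx O A → x ∈ centralizer (A : Set G) := Iff.rfl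

theorem LJ_le (O : Subgroup G) : LJ O ≤ O := fun _ h => h.1

theorem LJ_sq {O : Subgroup G} {x : G} (h : x ∈ LJ O) : x ^ 2 = 1 := h.2.1

theorem LJ_le_mem {O A : Subgroup G} (hA : Mx O A) : LJ O ≤ A := fun _ h => mem_of_mx hA h.1 h.2.1 (h.2.2 A hA)

theorem LJ_norm (O : Subgroup G) : normalizer (O : Set G) ≤ normalizer (LJ O : Set G) := by
  have key : ∀ g ∈ normalizer (O : Set G), ∀ x ∈ LJ O, g * x * g⁻¹ ∈ LJ O := by
    intro g hg x hx
    refine ⟨(mem_normalizer_iff.1 hg x).1 hx.1, ?_, fun A hA => ?_⟩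
    · rw [conj_pow, hx.2.1, mul_one, mul_inv_cancel]
    · -- conjugate `A` back
      have hOg : MulAut.conj g⁻¹ • A ≤ O := by
        intro a ha
        rw [mem_conj, inv_inv] at ha
        exact (mem_normalizer_iff.1 hg a).2 (hA.le ha)
      have h1 := hx.2.2 _ (hA.conj hOg)
      rw [mem_centralizer_iff] at h1 ⊢
      intro a ha
      have h2 : g⁻¹ * a * g ∈ MulAut.conj g⁻¹ • A := by
        rw [mem_conj, inv_inv]
        have e : g * (g⁻¹ * a * g) * g⁻¹ = a := by group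
        rw [e]
        exact ha
      have h3 := h1 _ h2
      calc a * (g * x * g⁻¹) = g * ((g⁻¹ * a * g) * x) * g⁻¹ := by group
        _ = g * (x * (g⁻¹ * a * g)) * g⁻¹ := by rw [h3]
        _ = g * x * g⁻¹ * a := by group
  intro g hg
  rw [mem_normalizer_iff]
  intro x
  refine ⟨key g hg x, fun h => ?_⟩
  have h1 := key g⁻¹ (inv_mem hg) _ h
  have e : g⁻¹ * (g * x * g⁻¹) * g⁻¹⁻¹ = x := by group
  rwa [e] at h1

/-! ### The frame -/

/-- `N = ⟨z^Y⟩` -/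
abbrev NZ (z : G) (Y : Subgroup G) : Subgroup G := V (zpowers z) Y

/-- the frame of one block `b` : `Y = C_G(z_a : a ≠ b)`, `X = ⟨z_a : a ≠ b⟩`, `D = C_G(Z_J)`, `z = z_b` -/
structure OneB (B D Y X : Subgroup G) (z : G) : Prop where
  kg : IsKGroup Y
  syl : Syl B Y
  BD : B ≤ D
  DY : D ≤ Y
  Dz : D ≤ centralizer ({z} : Set G)
  zQ : z ∈ zc (o2 Y)
  XQ : X ≤ zc (o2 Y)
  XY : X ≤ centralizer (Y : Set G)
  st : ∀ g ∈ Y, g * z * g⁻¹ * z⁻¹ ∈ X → g ∈ D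

variable {B D Y X : Subgroup G} {z : G}

theorem z_mem_NZ (z : G) (Y : Subgroup G) : z ∈ NZ z Y := by
  have h := Z_le_V (Z := zpowers z) (P := Y) (p := 1) (one_mem _)
  rw [map_one, one_smul] at h
  exact h (mem_zpowers z)

theorem NZ_le_of {z : G} {Y U : Subgroup G} (h1 : z ∈ U) (h2 : Y ≤ normalizer (U : Set G)) : NZ z Y ≤ U := by
  refine V_le fun p hp => ?_
  intro x hx
  rw [mem_conj] at hx
  have h3 : p⁻¹ * x * p ∈ U := (zpowers_le.2 h1) hx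
  have h4 := (mem_normalizer_iff.1 (h2 hp) _).1 h3
  have e : p * (p⁻¹ * x * p) * p⁻¹ = x := by group
  rwa [e] at h4

theorem NZ_norm (z : G) (Y : Subgroup G) : Y ≤ normalizer (NZ z Y : Set G) := le_normalizer_V _ _

namespace OneB

variable (h : OneB B D Y X z)
include h

theorem mem_D {g : G} (hg : g ∈ Y) (hz : g * z = z * g) : g ∈ D :=
  h.st g hg (by rw [hz, mul_inv_cancel_right, mul_inv_cancel]; exact one_mem _)

theorem Q_le : o2 Y ≤ o2 D :=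
  le_o2 ((o2_le_syl h.syl).trans h.BD) (o2_isPGroup _) (h.DY.trans (le_normalizer_o2 Y))

theorem N_le : NZ z Y ≤ zc (o2 Y) :=
  NZ_le_of h.zQ ((le_normalizer_o2 Y).trans (normalizer_le_normalizer_zc _))

theorem N_sq {x : G} (hx : x ∈ NZ z Y) : x ^ 2 = 1 := (mem_zc.1 (h.N_le hx)).2.2

theorem X_sq {x : G} (hx : x ∈ X) : x ^ 2 = 1 := (mem_zc.1 (h.XQ hx)).2.2

/-- elements of `Y` which centralise `N` modulo `X` centralise `N` -/
theorem ker {g : G} (hg : g ∈ Y) (hN : ∀ x ∈ NZ z Y, g * x * g⁻¹ * x⁻¹ ∈ X) : g ∈ centralizer (NZ z Y : Set G) := by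
  have hX : ∀ y ∈ Y, ∀ x ∈ X, y * x * y⁻¹ = x := fun y hy x hx => by
    rw [mem_centralizer_iff.1 (h.XY hx) y hy, mul_inv_cancel_right]
  -- the conjugates of `g` lie in `D`
  have h1 : ∀ y ∈ Y, y⁻¹ * g * y ∈ D := by
    intro y hy
    refine h.st _ (mul_mem (mul_mem (inv_mem hy) hg) hy) ?_
    have hyz : y * z * y⁻¹ ∈ NZ z Y := (mem_normalizer_iff.1 (NZ_norm z Y hy) z).1 (z_mem_NZ z Y)
    have h2 := hN _ hyz
    have e : y⁻¹ * g * y * z * (y⁻¹ * g * y)⁻¹ * z⁻¹ = y⁻¹ * (g * (y * z * y⁻¹) * g⁻¹ * (y * z * y⁻¹)⁻¹) * y := by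
      group
    have h3 := hX y⁻¹ (inv_mem hy) _ h2
    rw [inv_inv] at h3
    rw [e, h3]
    exact h2
  -- `g` centralises all conjugates of `z`
  have h2 : NZ z Y ≤ centralizer ({g} : Set G) := by
    refine V_le fun p hp => ?_
    intro x hx
    rw [mem_conj] at hx
    have h3 : p⁻¹ * x * p ∈ centralizer ({p⁻¹ * g * p} : Set G) := by
      refine (zpowers_le.2 ?_) hx
      rw [mem_centralizer_singleton_iff]
      exact (mem_centralizer_singleton_iff.1 (h.Dz (h1 p hp))).symm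
    rw [mem_centralizer_singleton_iff] at h3 ⊢
    have h4 := congrArg (fun t => p * t * p⁻¹) h3
    calc x * g = p * (p⁻¹ * x * p * (p⁻¹ * g * p)) * p⁻¹ := by group
      _ = p * (p⁻¹ * g * p * (p⁻¹ * x * p)) * p⁻¹ := by rw [h3]
      _ = g * x := by group
  rw [mem_centralizer_iff]
  exact fun x hx => mem_centralizer_singleton_iff.1 (h2 hx)

/-- `O₂(D) ∩ C(N) ≤ O₂(Y)` -/
theorem cent_le {g : G} (hg : g ∈ o2 D) (hN : g ∈ centralizer (NZ z Y : Set G)) : g ∈ o2 Y := by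
  have hYC : Y ≤ normalizer ((Y ⊓ centralizer (NZ z Y : Set G) : Subgroup G) : Set G) := by
    intro y hy
    have hk : ∀ y ∈ Y, ∀ x ∈ Y ⊓ centralizer (NZ z Y : Set G), y * x * y⁻¹ ∈ Y ⊓ centralizer (NZ z Y : Set G) := by
      intro y hy x hx
      refine mem_inf.2 ⟨mul_mem (mul_mem hy hx.1) (inv_mem hy), ?_⟩
      rw [mem_centralizer_iff]
      intro n hn
      have h1 : y⁻¹ * n * y ∈ NZ z Y := by
        have h2 := (mem_normalizer_iff.1 (NZ_norm z Y (inv_mem hy)) n).1 hn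
        rwa [inv_inv] at h2
      have h2 := mem_centralizer_iff.1 hx.2 _ h1
      calc n * (y * x * y⁻¹) = y * (y⁻¹ * n * y * x) * y⁻¹ := by group
        _ = y * (x * (y⁻¹ * n * y)) * y⁻¹ := by rw [h2]
        _ = y * x * y⁻¹ * n := by group
    rw [mem_normalizer_iff]
    intro x
    refine ⟨hk y hy x, fun h1 => ?_⟩
    have h2 := hk y⁻¹ (inv_mem hy) _ h1
    have e : y⁻¹ * (y * x * y⁻¹) * y⁻¹⁻¹ = x := by group
    rwa [e] at h2
  -- `C_Y(N) ≤ D`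
  have hCD : Y ⊓ centralizer (NZ z Y : Set G) ≤ D := fun x hx =>
    h.mem_D hx.1 (mem_centralizer_iff.1 hx.2 z (z_mem_NZ z Y)).symm
  have h1 : g ∈ o2 (Y ⊓ centralizer (NZ z Y : Set G)) := by
    have h2 : o2 D ⊓ centralizer (NZ z Y : Set G) ≤ o2 (Y ⊓ centralizer (NZ z Y : Set G)) := by
      refine le_o2 (le_inf (inf_le_left.trans ((o2_le D).trans h.DY)) inf_le_right)
        ((o2_isPGroup D).to_le inf_le_left) ?_
      intro x hx
      have hxD := le_normalizer_o2 D (hCD hx)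
      have hk : ∀ x ∈ Y ⊓ centralizer (NZ z Y : Set G), ∀ q ∈ o2 D ⊓ centralizer (NZ z Y : Set G),
          x * q * x⁻¹ ∈ o2 D ⊓ centralizer (NZ z Y : Set G) := by
        intro x hx q hq
        exact mem_inf.2 ⟨(mem_normalizer_iff.1 (le_normalizer_o2 D (hCD hx)) q).1 hq.1,
          mul_mem (mul_mem hx.2 hq.2) (inv_mem hx.2)⟩
      rw [mem_normalizer_iff]
      intro q
      refine ⟨hk x hx q, fun h1 => ?_⟩
      have h2 := hk x⁻¹ (inv_mem hx) _ h1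
      have e : x⁻¹ * (x * q * x⁻¹) * x⁻¹⁻¹ = q := by group
      rwa [e] at h2
    exact h2 (mem_inf.2 ⟨hg, hN⟩)
  -- characteristic in a normal subgroup of `Y`
  have h3 : o2 (Y ⊓ centralizer (NZ z Y : Set G)) ≤ o2 Y := by
    refine le_o2 ((o2_le _).trans inf_le_left) (o2_isPGroup _) ?_
    intro y hy
    exact Cfsg.Agent.Omega.normalizer_le_normalizer_o2' _ (hYC hy)
  exact h3 h1

/-- (ML) on `N X / X` -/
theorem ml (hML : MLK.{u, u}) {A : Subgroup G} (hA : Mx (o2 D) A) {CW : Subgroup G}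
    (hCW : ∀ x, x ∈ CW ↔ x ∈ NZ z Y ⊔ X ∧ ∀ a ∈ A, a * x * a⁻¹ * x⁻¹ ∈ X) :
    (A ⊓ centralizer (NZ z Y : Set G)).relIndex A ≤ CW.relIndex (NZ z Y ⊔ X) := by
  have hXc : ∀ y ∈ Y, ∀ x ∈ X, y * x = x * y := fun y hy x hx => mem_centralizer_iff.1 (h.XY hx) y hy
  have hAY : A ≤ Y := hA.le.trans ((o2_le D).trans h.DY)
  have hNX : NZ z Y ≤ Y := h.N_le.trans ((zc_le _).trans (o2_le Y))
  have hXY' : X ≤ Y := h.XQ.trans ((zc_le _).trans (o2_le Y))
  have hYX : Y ≤ normalizer (X : Set G) := by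
    intro y hy
    rw [mem_normalizer_iff]
    intro x
    constructor
    · intro hx
      rw [hXc y hy x hx, mul_inv_cancel_right]
      exact hx
    · intro hx
      have h1 := hXc y⁻¹ (inv_mem hy) _ hx
      have h2 : x = y * x * y⁻¹ := by
        calc x = y⁻¹ * (y * x * y⁻¹) * y := by group
          _ = y * x * y⁻¹ * y⁻¹ * y := by rw [h1]
          _ = y * x * y⁻¹ := by group
      rw [h2]
      exact hx
  have hW : ∀ x ∈ NZ z Y ⊔ X, ∃ n ∈ NZ z Y, ∃ c ∈ X, x = n * c := fun x hx =>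
    exists_mul_of_mem_sup (hXY'.trans (NZ_norm z Y)) hx
  refine hML.grp (C := Y) (W := NZ z Y ⊔ X) (Y := X) (T := B) (Q := o2 D) (A := A) (w := z) h.kg
    { nW := fun y hy => ?_
      nY := hYX
      YW := le_sup_right
      WY := sup_le (hNX.trans hYX) (hXY'.trans hYX)
      sq := fun x hx => ?_
      mem := mem_sup_left (z_mem_NZ z Y)
      gen := fun U h1 h2 h3 => sup_le (NZ_le_of h1 h3) h2
      TC := h.BD.trans h.DY
      two := h.syl.2.1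
      odd := syl_not_dvd h.syl
      fixT := fun t ht => ?_
      QC := (o2_le D).trans h.DY
      Q2 := o2_isPGroup D
      fixQ := fun q hq => ?_
      nrmQ := fun g hg h1 q hq => (mem_normalizer_iff.1 (le_normalizer_o2 D (h.st g hg h1)) q).1 hq
      AQ := hA.le
      Asq := fun a ha x _ => ?_ } (fun a => ?_) hCW
  · -- `Y` normalises `N X`
    have hk : ∀ y ∈ Y, ∀ x ∈ NZ z Y ⊔ X, y * x * y⁻¹ ∈ NZ z Y ⊔ X := by
      intro y hy x hx
      obtain ⟨n, hn, c, hc, rfl⟩ := hW x hx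
      have e : y * (n * c) * y⁻¹ = (y * n * y⁻¹) * (y * c * y⁻¹) := by group
      rw [e]
      exact mul_mem (mem_sup_left ((mem_normalizer_iff.1 (NZ_norm z Y hy) n).1 hn))
        (mem_sup_right ((mem_normalizer_iff.1 (hYX hy) c).1 hc))
    rw [mem_normalizer_iff]
    intro x
    refine ⟨hk y hy x, fun h1 => ?_⟩
    have h2 := hk y⁻¹ (inv_mem hy) _ h1
    have e : y⁻¹ * (y * x * y⁻¹) * y⁻¹⁻¹ = x := by group
    rwa [e] at h2
  · obtain ⟨n, hn, c, hc, rfl⟩ := hW x hx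
    have h1 : c * n = n * c := (hXc n (hNX hn) c hc).symm
    have h2 : n * n = 1 := by rw [← pow_two]; exact h.N_sq hn
    have e : n * c * (n * c) = c * c := by
      calc n * c * (n * c) = n * (c * n) * c := by group
        _ = n * n * (c * c) := by rw [h1]; group
        _ = c * c := by rw [h2, one_mul]
    rw [e]
    exact mul_mem hc hc
  · have h1 : t * z = z * t := mem_centralizer_singleton_iff.1 (h.Dz (h.BD ht))
    rw [h1, mul_inv_cancel_right, mul_inv_cancel]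
    exact one_mem _
  · have h1 : q * z = z * q := mem_centralizer_singleton_iff.1 (h.Dz (o2_le D hq))
    rw [h1, mul_inv_cancel_right, mul_inv_cancel]
    exact one_mem _
  · have h1 : a * a = 1 := by rw [← pow_two]; exact hA.sq a ha
    have e : a * (a * x * a⁻¹) * a⁻¹ * x⁻¹ = 1 := by
      calc a * (a * x * a⁻¹) * a⁻¹ * x⁻¹ = (a * a) * x * (a * a)⁻¹ * x⁻¹ := by group
        _ = 1 := by rw [h1]; group
    rw [e]
    exact one_mem _
  · rw [mem_inf]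
    refine and_congr_right fun ha => ⟨fun h1 x hx => ?_, fun h1 => h.ker (hAY ha) fun x hx => h1 x (mem_sup_left hx)⟩
    obtain ⟨n, hn, c, hc, rfl⟩ := hW x hx
    have h2 : a * n = n * a := (mem_centralizer_iff.1 h1 n hn).symm
    have h3 : a * c = c * a := hXc a (hAY ha) c hc
    have e : a * (n * c) * a⁻¹ * (n * c)⁻¹ = 1 := by
      calc a * (n * c) * a⁻¹ * (n * c)⁻¹ = (a * n) * c * a⁻¹ * c⁻¹ * n⁻¹ := by group
        _ = n * (a * c) * a⁻¹ * c⁻¹ * n⁻¹ := by rw [h2]; group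
        _ = 1 := by rw [h3]; group
    rw [e]
    exact one_mem _

theorem NX_le : NZ z Y ⊔ X ≤ o2 D := sup_le (h.N_le.trans ((zc_le _).trans h.Q_le)) (h.XQ.trans ((zc_le _).trans h.Q_le))

theorem NX_sq : ∀ x ∈ NZ z Y ⊔ X, x ^ 2 = 1 := by
  intro x hx
  have h1 : x ∈ zc (o2 Y) := (sup_le h.N_le h.XQ) hx
  exact (mem_zc.1 h1).2.2

theorem X_cent {A : Subgroup G} (hAY : A ≤ Y) : X ≤ centralizer (A : Set G) := h.XY.trans (centralizer_le hAY)

theorem A_le {A : Subgroup G} (hA : Mx (o2 D) A) : A ≤ Y := hA.le.trans ((o2_le D).trans h.DY)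

/-- `C_A(N X) = C_A(N)` -/
theorem cent_NX {A : Subgroup G} (hA : Mx (o2 D) A) :
    A ⊓ centralizer ((NZ z Y ⊔ X : Subgroup G) : Set G) = A ⊓ centralizer (NZ z Y : Set G) := by
  refine le_antisymm (inf_le_inf_left _ (centralizer_le (le_sup_left : NZ z Y ≤ NZ z Y ⊔ X))) ?_
  refine le_inf inf_le_left ?_
  have h1 : NZ z Y ⊔ X ≤ centralizer ((A ⊓ centralizer (NZ z Y : Set G) : Subgroup G) : Set G) :=
    sup_le (comm_symm inf_le_right) ((h.X_cent (h.A_le hA)).trans (centralizer_le inf_le_left))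
  exact comm_symm h1

theorem mem_Y {x : G} (hx : x ∈ NZ z Y ⊔ X) : x ∈ Y := h.DY (o2_le D (h.NX_le hx))

/-- the elements of `N X` which `A` centralises modulo `X` -/
def CW (A : Subgroup G) : Subgroup G where
  carrier := {x | x ∈ NZ z Y ⊔ X ∧ ∀ a ∈ A, a * x * a⁻¹ * x⁻¹ ∈ X}
  one_mem' := ⟨one_mem _, fun a _ => by simp⟩
  mul_mem' := by
    rintro x y ⟨h1, h2⟩ ⟨k1, k2⟩
    refine ⟨mul_mem h1 k1, fun a ha => ?_⟩
    have h3 : x * (a * y * a⁻¹ * y⁻¹) * x⁻¹ = a * y * a⁻¹ * y⁻¹ := by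
      rw [mem_centralizer_iff.1 (h.XY (k2 a ha)) x (h.mem_Y h1), mul_inv_cancel_right]
    have e : a * (x * y) * a⁻¹ * (x * y)⁻¹ = (a * x * a⁻¹ * x⁻¹) * (x * (a * y * a⁻¹ * y⁻¹) * x⁻¹) := by group
    rw [e, h3]
    exact mul_mem (h2 a ha) (k2 a ha)
  inv_mem' := by
    rintro x ⟨h1, h2⟩
    refine ⟨inv_mem h1, fun a ha => ?_⟩
    have h3 : x⁻¹ * (a * x * a⁻¹ * x⁻¹)⁻¹ * x = (a * x * a⁻¹ * x⁻¹)⁻¹ := by
      have h4 := mem_centralizer_iff.1 (h.XY (inv_mem (h2 a ha))) x⁻¹ (inv_mem (h.mem_Y h1))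
      calc x⁻¹ * (a * x * a⁻¹ * x⁻¹)⁻¹ * x = (a * x * a⁻¹ * x⁻¹)⁻¹ * x⁻¹ * x := by rw [h4]
        _ = (a * x * a⁻¹ * x⁻¹)⁻¹ := by group
    have e : a * x⁻¹ * a⁻¹ * x⁻¹⁻¹ = x⁻¹ * (a * x * a⁻¹ * x⁻¹)⁻¹ * x := by group
    rw [e, h3]
    exact inv_mem (h2 a ha)

theorem relIndex_cent (hML : MLK.{u, u}) {A : Subgroup G} (hA : Mx (o2 D) A) :
    (centralizer (NZ z Y : Set G)).relIndex A ≤ (h.CW A).relIndex (NZ z Y ⊔ X) := by
  have h1 := h.ml hML hA (CW := h.CW A) fun x => Iff.rfl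
  rwa [inf_relIndex_left] at h1

/-- `C_{NX/X}(A)` is the image of `C_{NX}(A)` -/
theorem CW_eq (hML : MLK.{u, u}) {A : Subgroup G} (hA : Mx (o2 D) A) :
    (NZ z Y ⊔ X) ⊓ centralizer (A : Set G) = h.CW A := by
  have hle : (NZ z Y ⊔ X) ⊓ centralizer (A : Set G) ≤ h.CW A := by
    intro x hx
    refine ⟨hx.1, fun a ha => ?_⟩
    rw [mem_centralizer_iff.1 hx.2 a ha, mul_inv_cancel_right, mul_inv_cancel]
    exact one_mem _
  have h1 := hA.thom h.NX_le h.NX_sq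
  have h2 : (centralizer ((NZ z Y ⊔ X : Subgroup G) : Set G)).relIndex A = (centralizer (NZ z Y : Set G)).relIndex A := by
    rw [← inf_relIndex_left A (centralizer ((NZ z Y ⊔ X : Subgroup G) : Set G)), h.cent_NX hA, inf_relIndex_left]
  rw [h2] at h1
  have h3 := h1.trans (h.relIndex_cent hML hA)
  have h4 := card_eq (NZ z Y ⊔ X) (centralizer (A : Set G))
  have h5 := card_eq (NZ z Y ⊔ X) (h.CW A)
  have h6 : (NZ z Y ⊔ X) ⊓ h.CW A = h.CW A := inf_eq_right.2 fun x hx => hx.1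
  rw [h6] at h5
  refine Subgroup.eq_of_le_of_card_ge hle ?_
  have p1 : 0 < (h.CW A).relIndex (NZ z Y ⊔ X) := by
    rcases Nat.eq_zero_or_pos ((h.CW A).relIndex (NZ z Y ⊔ X)) with h0 | h0
    · have p2 : 0 < Nat.card (NZ z Y ⊔ X : Subgroup G) := Nat.card_pos
      rw [h5, h0, mul_zero] at p2
      exact absurd p2 (lt_irrefl 0)
    · exact h0
  apply Nat.le_of_mul_le_mul_right _ p1
  calc Nat.card (h.CW A) * (h.CW A).relIndex (NZ z Y ⊔ X) = Nat.card (NZ z Y ⊔ X : Subgroup G) := h5.symm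
    _ = Nat.card ((NZ z Y ⊔ X) ⊓ centralizer (A : Set G) : Subgroup G) *
        (centralizer (A : Set G)).relIndex (NZ z Y ⊔ X) := h4
    _ ≤ _ := Nat.mul_le_mul_left _ h3

/-- **(K3)** -/
theorem k3 (hML : MLK.{u, u}) {A : Subgroup G} (hA : Mx (o2 D) A) {w : G} (hw : w ∈ NZ z Y)
    (hX : ∀ a ∈ A, a * w * a⁻¹ * w⁻¹ ∈ X) : ∀ a ∈ A, a * w = w * a := by
  have h1 : w ∈ h.CW A := ⟨mem_sup_left hw, hX⟩
  rw [← h.CW_eq hML hA] at h1
  exact fun a ha => mem_centralizer_iff.1 h1.2 a ha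

/-- **(NO)** : `A` is exact on `N` -/
theorem ex (hML : MLK.{u, u}) {A : Subgroup G} (hA : Mx (o2 D) A) :
    (centralizer (NZ z Y : Set G)).relIndex A ≤ (centralizer (A : Set G)).relIndex (NZ z Y) := by
  refine (h.relIndex_cent hML hA).trans ?_
  rw [← h.CW_eq hML hA, inf_relIndex_left]
  refine relIndex_le_of_sup le_sup_left (comm_of_sq h.NX_sq) (sup_le le_sup_left ?_)
  exact (le_inf le_sup_right (h.X_cent (h.A_le hA))).trans le_sup_right

/-- `C_A(N) N` is of maximal order -/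
theorem mx (hML : MLK.{u, u}) {A : Subgroup G} (hA : Mx (o2 D) A) :
    Mx (o2 D) (A ⊓ centralizer (NZ z Y : Set G) ⊔ NZ z Y) :=
  hA.sup (le_sup_left.trans h.NX_le) (fun _ hx => h.N_sq hx) (h.ex hML hA)

theorem sup_le_o2Y {A : Subgroup G} (hA : Mx (o2 D) A) : A ⊓ centralizer (NZ z Y : Set G) ⊔ NZ z Y ≤ o2 Y :=
  sup_le (fun _ hx => h.cent_le (hA.le hx.1) hx.2) (h.N_le.trans (zc_le _))

theorem mxY (hML : MLK.{u, u}) {A : Subgroup G} (hA : Mx (o2 D) A) :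
    Mx (o2 Y) (A ⊓ centralizer (NZ z Y : Set G) ⊔ NZ z Y) :=
  ⟨h.sup_le_o2Y hA, (h.mx hML hA).sq, fun C hC hC2 => (h.mx hML hA).max C (hC.trans h.Q_le) hC2⟩

/-- `𝒜(O₂(Y)) ⊆ 𝒜(O₂(D))` -/
theorem mx_of (hML : MLK.{u, u}) {A' : Subgroup G} (hA' : Mx (o2 Y) A') : Mx (o2 D) A' := by
  obtain ⟨A, hA⟩ := Mx.exists_mx (o2 D)
  have h1 := h.mx hML hA
  exact h1.of_card (hA'.le.trans h.Q_le) hA'.sq (hA'.max _ (h.sup_le_o2Y hA) h1.sq)

theorem LJ_le (hML : MLK.{u, u}) : LJ (o2 D) ≤ LJ (o2 Y) := by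
  rintro x ⟨h1, h2, h3⟩
  refine ⟨?_, h2, fun A' hA' => h3 A' (h.mx_of hML hA')⟩
  obtain ⟨A, hA⟩ := Mx.exists_mx (o2 D)
  exact h.cent_le h1 (centralizer_le (le_sup_right : NZ z Y ≤ A ⊓ centralizer (NZ z Y : Set G) ⊔ NZ z Y)
    (h3 _ (h.mx hML hA)))

theorem N_le_LJ : NZ z Y ≤ LJ (o2 Y) := by
  intro x hx
  have h1 := mem_zc.1 (h.N_le hx)
  exact ⟨h1.1, h1.2.2, fun A hA => mem_centralizer_iff.2 fun a ha => h1.2.1 a (hA.le ha)⟩

theorem E_cent : LJ (o2 Y) ≤ centralizer (NZ z Y : Set G) := by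
  intro x hx
  rw [mem_centralizer_iff]
  intro n hn
  exact ((mem_zc.1 (h.N_le hn)).2.1 x hx.1).symm

/-- `E = N C_E(A)` -/
theorem E_sup (hML : MLK.{u, u}) {A : Subgroup G} (hA : Mx (o2 D) A) :
    LJ (o2 Y) ≤ NZ z Y ⊔ (LJ (o2 Y) ⊓ centralizer (A : Set G)) := by
  intro x hx
  have h1 := LJ_le_mem (h.mxY hML hA) hx
  obtain ⟨c, hc, n, hn, rfl⟩ := exists_mul_of_mem_sup
    ((comm_symm inf_le_right).trans (centralizer_le_normalizer _)) h1
  refine mul_mem (mem_sup_right (mem_inf.2 ⟨?_, hA.comm hc.1⟩)) (mem_sup_left hn)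
  have h2 := mul_mem hx (inv_mem (h.N_le_LJ hn))
  rwa [mul_inv_cancel_right] at h2

end OneB

end Cfsg.Agent.Omega.EDel.ZJBase
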