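import Cfsg.Agent.Omega.EDel.Bx.ZJBase
import Cfsg.Agent.Omega.EK3.BaseE
import Cfsg.Agent.GTwoFour.Tools
import Cfsg.Agent.ZN.ChoiceNse
import Cfsg.Agent.Omega.EDel.Bx.Par

/-!
# LEMMA ZJ+ (helper285 #25856, helper271 #26119), `q = 2` : the frame

`ZJF B ZJ Q W z` : as helper23's `AOF.AO` without `jO`, with `Q = C_B(W i : all i)`, normalised by elements `ρ i` moving `z i` in
`W i`, and for every `i` a member of `Mx (O₂(C(ZJ)))` which moves `W i` and centralises the other `W l`.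

* `ZJF.syl_Y`, `ZJF.st`, `ZJF.char2_Y`, **`ZJF.toOne`** : the one block situation `OneB B D Y_j Z^j (z j)`, `Y_j = C_G(z l : l ≠ j)`,
  `Z^j = ⟨z l : l ≠ j⟩`;
* `ZJF.inter` : `⋂ Z^j = 1`;
* `ZJF.exists_fix` : `Ω₁Z(J(O)) ≰ ZJ` : some `n ∉ ZJ` with `[n, B] ≤ ZJ`;
* `ZJF.mem_of_Q` : `n ∈ Ω₁Z(J(O))` centralised by `Q` is in `ZJ`.
-/

set_option autoImplicit false
set_option linter.unusedSectionVars false

namespace Cfsg.Agent.Omega.EDel.ZJFr

open Subgroup Cfsg Cfsg.Agent.ZN.ChoiceBase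
open Cfsg.Agent.ZN (zc zl o2)
open Cfsg.Agent.ZN.ChoiceSit (Syl o2_le_syl syl_conj)
open Cfsg.Agent.Omega.EK3 (Yc mem_Yc Nc Y_norm_V Y_norm_N)
open Cfsg.Agent.Omega.KL.TwoS (Mx)
open Cfsg.Agent.Omega.EDel.ZJBase
open Cfsg.Agent.MinSimple.VModule (zc_le normalizer_le_normalizer_zc le_normalizer_o2 o2_isPGroup le_o2 o2_le
  le_centralizer_zc)
open scoped Pointwise

universe u

variable {G : Type u} [Group G]

/-- the frame of LEMMA ZJ+, `q = 2` -/
structure ZJF [Finite G] (B ZJ Q : Subgroup G) {ι : Type} (W : ι → Subgroup G) (z : ι → G) : Prop where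
  c2 : IsCharacteristicTwoType G
  two : IsPGroup 2 B
  syl : Syl B (centralizer (ZJ : Set G))
  zcB : zc B = ZJ
  zJ : ∀ i, z i ∈ ZJ
  gen : ZJ ≤ closure (Set.range z)
  ne : ∀ i, z i ≠ 1
  inj : Function.Injective z
  zW : ∀ i, z i ∈ W i
  cardW : ∀ i, Nat.card (W i) = 4
  sqW : ∀ i, ∀ x ∈ W i, x ^ 2 = 1
  BW : ∀ i, ∀ b ∈ B, ∀ x ∈ W i, b * x * b⁻¹ * x⁻¹ = 1 ∨ b * x * b⁻¹ * x⁻¹ = z i
  perm : ∀ g ∈ normalizer (B : Set G), ∀ i, ∃ j, g * z i * g⁻¹ = z j
  ex : ∀ i : ι, ∃ l, l ≠ i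
  QB : Q ≤ B
  /-- `C_B(W i : all i) ≤ Q` -/
  BQ : ∀ x ∈ B, (∀ i, x ∈ centralizer (W i : Set G)) → x ∈ Q
  QW : ∀ i, Q ≤ centralizer (W i : Set G)
  rho : ∀ i, ∃ ρ ∈ normalizer (Q : Set G), (∀ l, l ≠ i → ρ * z l = z l * ρ) ∧ ρ * z i * ρ⁻¹ ∈ W i ∧
    ρ * z i * ρ⁻¹ ≠ z i
  ab : ∀ i, ∃ A : Subgroup G, Mx (o2 (centralizer (ZJ : Set G))) A ∧ ¬ A ≤ centralizer (W i : Set G) ∧
    ∀ l, l ≠ i → A ≤ centralizer (W l : Set G)

/-- `Z^j = ⟨z l : l ≠ j⟩` -/
def Xc {ι : Type} (z : ι → G) (j : ι) : Subgroup G := closure (z '' {j}ᶜ)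

theorem mem_Xc {ι : Type} {z : ι → G} {j l : ι} (hl : l ≠ j) : z l ∈ Xc z j := subset_closure ⟨l, hl, rfl⟩

theorem Xc_le {ι : Type} {z : ι → G} {j : ι} {K : Subgroup G} (h : ∀ l, l ≠ j → z l ∈ K) : Xc z j ≤ K := by
  rw [Xc, closure_le]
  rintro _ ⟨l, hl, rfl⟩
  exact h l hl

theorem Xc_le_cent {ι : Type} (z : ι → G) (j : ι) : Xc z j ≤ centralizer (Yc z j : Set G) := by
  refine Xc_le fun l hl => mem_centralizer_iff.2 fun y hy => mem_Yc.1 hy l hl

namespace ZJF

variable [Finite G] {B ZJ Q : Subgroup G} {ι : Type} {W : ι → Subgroup G} {z : ι → G}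
  (h : ZJF B ZJ Q W z)
include h

theorem mem_J {x : G} (hx : x ∈ ZJ) : x ∈ B ∧ x ^ 2 = 1 ∧ ∀ b ∈ B, b * x = x * b := by
  rw [← h.zcB, mem_zc] at hx
  exact hx

theorem ZJB : ZJ ≤ B := fun _ hx => (h.mem_J hx).1

theorem sqJ {x : G} (hx : x ∈ ZJ) : x ^ 2 = 1 := (h.mem_J hx).2.1

theorem BD : B ≤ centralizer (ZJ : Set G) := h.syl.1

theorem JJ {x y : G} (hx : x ∈ ZJ) (hy : y ∈ ZJ) : x * y = y * x := (h.mem_J hy).2.2 _ (h.ZJB hx)

theorem mem_D {x : G} (hx : ∀ i, x * z i = z i * x) : x ∈ centralizer (ZJ : Set G) := by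
  have h1 : ZJ ≤ centralizer ({x} : Set G) := by
    refine h.gen.trans ((closure_le _).2 ?_)
    rintro _ ⟨i, rfl⟩
    exact mem_centralizer_singleton_iff.2 (hx i).symm
  rw [mem_centralizer_iff]
  exact fun y hy => mem_centralizer_singleton_iff.1 (h1 hy)

theorem D_comm {x : G} (hx : x ∈ centralizer (ZJ : Set G)) (i : ι) : x * z i = z i * x :=
  (mem_centralizer_iff.1 hx _ (h.zJ i)).symm

theorem D_le (j : ι) : centralizer (ZJ : Set G) ≤ Yc z j := fun _ hx => mem_Yc.2 fun l _ => h.D_comm hx l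

theorem B_le (j : ι) : B ≤ Yc z j := h.BD.trans (h.D_le j)

theorem Xc_le_ZJ (j : ι) : Xc z j ≤ ZJ := Xc_le fun l _ => h.zJ l

theorem stab (j : ι) : Yc z j ⊓ centralizer ({z j} : Set G) = centralizer (ZJ : Set G) := by
  apply le_antisymm
  · rintro x ⟨hx, hxj⟩
    refine h.mem_D fun i => ?_
    by_cases hi : i = j
    · subst hi
      exact mem_centralizer_singleton_iff.1 hxj
    · exact mem_Yc.1 hx i hi
  · exact le_inf (h.D_le j) fun x hx => mem_centralizer_singleton_iff.2 (h.D_comm hx j)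

theorem norm_Y (j : ι) : Yc z j ⊓ normalizer (B : Set G) ≤ centralizer (ZJ : Set G) := by
  rintro g ⟨hg, hgB⟩
  rw [← h.stab j]
  refine ⟨hg, mem_centralizer_singleton_iff.2 ?_⟩
  obtain ⟨m, hm⟩ := h.perm g hgB j
  have hmj : m = j := by
    by_contra hne
    have h1 : g * z m * g⁻¹ = z m := by rw [mem_Yc.1 hg m hne]; group
    have h2 : z j = z m := mul_left_cancel (mul_right_cancel (hm.trans h1.symm))
    exact hne (h.inj h2).symm
  subst hmj
  exact mul_inv_eq_iff_eq_mul.1 hm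

/-- **`B` is Sylow in `Y_j`** -/
theorem syl_Y (j : ι) : Syl B (Yc z j) := by
  refine ⟨h.B_le j, h.two, fun R hR h2 hBR => ?_⟩
  have h3 : normalizer (B : Set G) ⊓ R = B := by
    refine h.syl.2.2 _ ?_ (h2.to_le inf_le_right) (le_inf le_normalizer hBR)
    rintro r ⟨hr, hr2⟩
    exact h.norm_Y j ⟨hR hr2, hr⟩
  exact (ZN.ChoiceNse.eq_of_normalizer_inf_le h2 hBR h3.le).symm

/-- `g ∈ Y_j`, `z_j^g ∈ ZJ` ⇒ `g ∈ D` (Burnside) -/
theorem st (j : ι) {g : G} (hg : g ∈ Yc z j) (hz : g * z j * g⁻¹ ∈ ZJ) : g ∈ centralizer (ZJ : Set G) := by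
  set b := g * z j * g⁻¹ with hb
  have hbB := (h.mem_J hz).2.2
  have h1 : Syl B (Yc z j ⊓ centralizer ({b} : Set G)) :=
    ⟨le_inf (h.B_le j) fun x hx => mem_centralizer_singleton_iff.2 (hbB x hx), h.two,
      fun R hR => (h.syl_Y j).2.2 R (hR.trans inf_le_left)⟩
  have hgY : cj g (Yc z j) = Yc z j := cj_eq_of_mem_normalizer (le_normalizer hg)
  have h2 : Syl (cj g B) (Yc z j ⊓ centralizer ({b} : Set G)) := by
    refine ⟨le_inf ?_ ?_, isPGroup_cj g h.two, fun R hR hR2 hBR => ?_⟩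
    · rw [← hgY]
      exact cj_mono g (h.B_le j)
    · rintro x hx
      have h3 := (h.mem_J (h.zJ j)).2.2 _ (mem_cj.1 hx)
      rw [mem_centralizer_singleton_iff, hb]
      calc x * (g * z j * g⁻¹) = g * (g⁻¹ * x * g * z j) * g⁻¹ := by group
        _ = g * z j * g⁻¹ * x := by rw [h3]; group
    · have h4 : cj g⁻¹ R ≤ Yc z j := by
        have := cj_mono g⁻¹ ((hR.trans inf_le_left).trans hgY.ge)
        rwa [cj_inv_cj] at this
      have h5 : B ≤ cj g⁻¹ R := by
        have := cj_mono g⁻¹ hBR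
        rwa [cj_inv_cj] at this
      have h6 := (h.syl_Y j).2.2 _ h4 (isPGroup_cj g⁻¹ hR2) h5
      rw [← h6, cj_cj_inv]
  obtain ⟨c, hc, e⟩ := syl_conj h2 h1
  have h3 : c * g ∈ normalizer (B : Set G) := by
    rw [mem_normalizer_iff_cj, ← cj_cj, e]
  have h4 : c * g ∈ centralizer (ZJ : Set G) := h.norm_Y j ⟨mul_mem hc.1 hg, h3⟩
  have h5 : c * b = b * c := mem_centralizer_singleton_iff.1 hc.2
  have h6 := h.D_comm h4 j
  rw [← h.stab j]
  refine ⟨hg, mem_centralizer_singleton_iff.2 ?_⟩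
  have h7 : z j = b := by
    calc z j = (c * g) * z j * (c * g)⁻¹ := by rw [h6]; group
      _ = c * b * c⁻¹ := by rw [hb]; group
      _ = b := by rw [h5]; group
  calc g * z j = g * z j * g⁻¹ * g := by group
    _ = z j * g := by rw [← hb, ← h7]

/-- `Y_j` has characteristic 2 -/
theorem char2_Y (j : ι) : Yc z j ⊓ centralizer (o2 (Yc z j) : Set G) ≤ o2 (Yc z j) := by
  have e : Yc z j = centralizer ((Xc z j : Subgroup G) : Set G) := by
    rw [Xc, centralizer_closure]
    rfl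
  rw [e]
  refine NOne.LemmaT.char2_centralizer h.c2 (h.two.to_le ((h.Xc_le_ZJ j).trans h.ZJB)) ?_
  obtain ⟨l, hl⟩ := h.ex j
  intro e1
  have h1 := mem_Xc (z := z) hl
  rw [e1, mem_bot] at h1
  exact h.ne l h1

theorem o2Y_le_B (j : ι) : o2 (Yc z j) ≤ B := o2_le_syl (h.syl_Y j)

theorem ZJ_le_zc (j : ι) : ZJ ≤ zc (o2 (Yc z j)) := by
  have h1 : ZJ ≤ centralizer (o2 (Yc z j) : Set G) := fun x hx =>
    mem_centralizer_iff.2 fun y hy => (h.mem_J hx).2.2 y (h.o2Y_le_B j hy)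
  intro x hx
  have h2 : x ∈ Yc z j := mem_Yc.2 fun l _ => h.JJ hx (h.zJ l)
  exact mem_zc.2 ⟨h.char2_Y j ⟨h2, h1 hx⟩, h.sqJ hx, fun y hy => mem_centralizer_iff.1 (h1 hx) y hy⟩

/-- **the situation of one block** -/
theorem toOne (kg : ∀ j, IsKGroup (Yc z j)) (j : ι) :
    OneB B (centralizer (ZJ : Set G)) (Yc z j) (Xc z j) (z j) where
  kg := kg j
  syl := h.syl_Y j
  BD := h.BD
  DY := h.D_le j
  Dz := fun _ hx => mem_centralizer_singleton_iff.2 (h.D_comm hx j)
  zQ := h.ZJ_le_zc j (h.zJ j)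
  XQ := (h.Xc_le_ZJ j).trans (h.ZJ_le_zc j)
  XY := Xc_le_cent z j
  st := by
    intro g hg hx
    refine h.st j hg ?_
    have h1 := mul_mem (h.Xc_le_ZJ j hx) (h.zJ j)
    rwa [inv_mul_cancel_right] at h1

theorem O_le_B : o2 (centralizer (ZJ : Set G)) ≤ B := o2_le_syl h.syl

theorem ZJ_le_O : ZJ ≤ o2 (centralizer (ZJ : Set G)) := by
  refine le_o2 (h.ZJB.trans h.BD) (h.two.to_le h.ZJB) ?_
  exact centralizer_le_normalizer _

/-! ### `⋂ Z^j = 1` -/

/-- `z j ∉ Z^j` -/
theorem not_mem_Xc (j : ι) : z j ∉ Xc z j := by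
  intro h1
  obtain ⟨ρ, -, h2, -, h4⟩ := h.rho j
  apply h4
  have h3 : ρ ∈ Yc z j := mem_Yc.2 h2
  have h5 := mem_centralizer_iff.1 (Xc_le_cent z j h1) ρ h3
  rw [h5]
  group

theorem inter_aux [Finite ι] (S : Finset ι) : ∀ x ∈ ZJ, (∀ j ∈ S, x ∈ Xc z j) → x ∈ closure (z '' {l | l ∉ S}) := by
  classical
  induction S using Finset.induction_on with
  | empty =>
    intro x hx _
    have h1 := h.gen hx
    refine closure_mono ?_ h1
    rintro _ ⟨i, rfl⟩
    exact ⟨i, by simp, rfl⟩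
  | insert j S hj ih =>
    intro x hx hS
    have h1 := ih x hx fun l hl => hS l (Finset.mem_insert_of_mem hl)
    -- `x = z_j^ε y`
    have h2 : ∀ y ∈ closure (z '' {l | l ∉ S}), y ∈ closure (z '' {l | l ∉ insert j S}) ∨
        z j * y ∈ closure (z '' {l | l ∉ insert j S}) := by
      intro y hy
      have hK : closure (z '' {l | l ∉ insert j S}) ≤ ZJ := by
        rw [closure_le]
        rintro _ ⟨l, -, rfl⟩
        exact h.zJ l
      induction hy using closure_induction with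
      | mem y hy =>
        obtain ⟨l, hl, rfl⟩ := hy
        by_cases e : l = j
        · right
          subst e
          have := h.sqJ (h.zJ l)
          rw [pow_two] at this
          rw [this]
          exact one_mem _
        · left
          refine subset_closure ⟨l, ?_, rfl⟩
          intro h3
          rcases Finset.mem_insert.1 h3 with h4 | h4
          · exact e h4
          · exact hl h4
      | one => exact Or.inl (one_mem _)
      | mul a b ha hb iha ihb =>
        have zz := h.sqJ (h.zJ j)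
        rw [pow_two] at zz
        rcases iha with h3 | h3 <;> rcases ihb with h4 | h4
        · exact Or.inl (mul_mem h3 h4)
        · right
          have h5 := mul_mem h3 h4
          have e : a * (z j * b) = z j * (a * b) := by
            rw [← mul_assoc, ← mul_assoc, h.JJ (hK h3) (h.zJ j)]
          rwa [e] at h5
        · right
          have h5 := mul_mem h3 h4
          rwa [mul_assoc] at h5
        · left
          have h5 := mul_mem h3 h4
          have ea : a ∈ ZJ := by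
            have := mul_mem (h.zJ j) (hK h3)
            rwa [← mul_assoc, zz, one_mul] at this
          have e : z j * a * (z j * b) = a * b := by
            rw [h.JJ (h.zJ j) ea, mul_assoc, ← mul_assoc (z j), zz, one_mul]
          rwa [e] at h5
      | inv a ha iha =>
        rcases iha with h3 | h3
        · exact Or.inl (inv_mem h3)
        · right
          have h4 := inv_mem h3
          have ez : (z j)⁻¹ = z j := by
            have := h.sqJ (h.zJ j)
            rw [pow_two] at this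
            exact inv_eq_of_mul_eq_one_right this
          have ea : a ∈ ZJ := by
            have zz := h.sqJ (h.zJ j)
            rw [pow_two] at zz
            have := mul_mem (h.zJ j) (hK h3)
            rwa [← mul_assoc, zz, one_mul] at this
          rw [mul_inv_rev, ez, h.JJ (inv_mem ea) (h.zJ j)] at h4
          exact h4
    have hX : closure (z '' {l | l ∉ insert j S}) ≤ Xc z j := by
      refine closure_mono ?_
      rintro _ ⟨l, hl, rfl⟩
      refine ⟨l, ?_, rfl⟩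
      intro e
      exact hl (Finset.mem_insert.2 (Or.inl e))
    rcases h2 x h1 with h3 | h3
    · exact h3
    · exfalso
      apply h.not_mem_Xc j
      have h4 := mul_mem (hX h3) (inv_mem (hS j (Finset.mem_insert_self _ _)))
      rwa [mul_inv_cancel_right] at h4

theorem fin : Finite ι := Finite.of_injective z h.inj

/-- **`⋂ Z^j = 1`** -/
theorem inter {x : G} (hx : x ∈ ZJ) (hX : ∀ j, x ∈ Xc z j) : x = 1 := by
  have := h.fin
  have := Fintype.ofFinite ι
  have h1 := h.inter_aux Finset.univ x hx fun j _ => hX j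
  have e : (z '' {l | l ∉ (Finset.univ : Finset ι)}) = ∅ := by
    ext y
    simp
  rw [e, Subgroup.closure_empty, mem_bot] at h1
  exact h1

/-! ### Fixed points -/

/-- some `n ∈ Ω₁Z(J(O)) - ZJ` with `[n, B] ≤ ZJ` -/
theorem exists_fix (hne : ¬ LJ (o2 (centralizer (ZJ : Set G))) ≤ ZJ) :
    ∃ n ∈ LJ (o2 (centralizer (ZJ : Set G))), n ∉ ZJ ∧ ∀ b ∈ B, b * n * b⁻¹ * n⁻¹ ∈ ZJ := by
  have : Fact (Nat.Prime 2) := ⟨Nat.prime_two⟩
  have hn : B ≤ normalizer (LJ (o2 (centralizer (ZJ : Set G))) : Set G) :=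
    (h.BD.trans (le_normalizer_o2 _)).trans (LJ_norm _)
  obtain ⟨n, hn1, hn2, hn3⟩ := GTwoFour.Tools.exists_fixed_mod (p := 2) (Y := B)
    (N := LJ (o2 (centralizer (ZJ : Set G)))) (M := ZJ) h.two ((LJ_le _).trans h.O_le_B)
    (fun y hy n hn' => (mem_normalizer_iff.1 (hn hy) n).1 hn')
    (fun y hy m hm => by rw [(h.mem_J hm).2.2 y hy, mul_inv_cancel_right]; exact hm)
    (by
      by_contra hcon
      push Not at hcon
      exact hne hcon)
  exact ⟨n, hn1, hn2, fun b hb => hn3 b hb⟩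

/-! ### `B = Q J(O)` -/

theorem W_cases (i : ι) {e x : G} (he : e ∈ W i) (he1 : e ≠ 1) (hez : e ≠ z i) (hx : x ∈ W i) :
    x = 1 ∨ x = z i ∨ x = e ∨ x = e * z i := by
  by_cases hx1 : x = 1
  · exact Or.inl hx1
  · right
    rcases BxF.eq_of_four (h.cardW i) (h.sqW i) he he1 (h.zW i) (h.ne i) hez hx hx1 with e1 | e1 | e1
    · exact Or.inr (Or.inl e1)
    · exact Or.inl e1
    · exact Or.inr (Or.inr e1)

/-- an element of `B` which moves `W i` moves every `e ∈ W i - ⟨z i⟩` -/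
theorem mv_of (i : ι) {b e : G} (hb : b ∈ B) (hbW : b ∉ centralizer (W i : Set G)) (he : e ∈ W i) (he1 : e ≠ 1)
    (hez : e ≠ z i) : b * e * b⁻¹ = z i * e := by
  rcases h.BW i b hb e he with h1 | h1
  · exfalso
    apply hbW
    have h2 : b * e = e * b := by
      rw [mul_inv_eq_one] at h1
      calc b * e = b * e * b⁻¹ * b := by group
        _ = e * b := by rw [h1]
    have h3 := (h.mem_J (h.zJ i)).2.2 b hb
    rw [mem_centralizer_iff]
    intro x hx
    rcases h.W_cases i he he1 hez hx with e1 | e1 | e1 | e1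
    · rw [e1]; group
    · rw [e1]; exact h3.symm
    · rw [e1]; exact h2.symm
    · rw [e1, mul_assoc, ← h3, ← mul_assoc, ← h2]; group
  · exact mul_inv_eq_iff_eq_mul.1 h1

theorem mul_cent (i : ι) {a b : G} (ha : a ∈ B) (hb : b ∈ B) (haW : a ∉ centralizer (W i : Set G))
    (hbW : b ∉ centralizer (W i : Set G)) : a * b ∈ centralizer (W i : Set G) := by
  rw [mem_centralizer_iff]
  intro x hx
  have h3 := (h.mem_J (h.zJ i)).2.2 a ha
  have h4 := (h.mem_J (h.zJ i)).2.2 b hb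
  have zz := h.sqJ (h.zJ i)
  rw [pow_two] at zz
  by_cases hx1 : x = 1
  · rw [hx1]; group
  by_cases hxz : x = z i
  · rw [hxz, mul_assoc, h4, ← mul_assoc, ← mul_assoc, h3]
  have h5 := h.mv_of i ha haW hx hx1 hxz
  have h6 := h.mv_of i hb hbW hx hx1 hxz
  have e1 : b * x = z i * x * b := by rw [← h6]; group
  have e2 : a * x = z i * x * a := by rw [← h5]; group
  symm
  calc a * b * x = a * (b * x) := by group
    _ = a * z i * x * b := by rw [e1]; group
    _ = z i * (a * x) * b := by rw [h3]; group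
    _ = (z i * z i) * x * a * b := by rw [e2]; group
    _ = x * (a * b) := by rw [zz]; group

theorem mem_of_Q_aux [Fintype ι] [DecidableEq ι] {n : G} (hn : n ∈ LJ (o2 (centralizer (ZJ : Set G))))
    (hQ : ∀ g ∈ Q, g * n = n * g) : ∀ (S : Finset ι) (x : G), x ∈ B → (∀ i, i ∉ S → x ∈ centralizer (W i : Set G)) →
      x * n = n * x := by
  intro S
  induction S using Finset.induction_on with
  | empty =>
    intro x hx hS
    exact hQ x (h.BQ x hx fun i => hS i (by simp))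
  | insert j S hj ih =>
    intro x hx hS
    by_cases hxj : x ∈ centralizer (W j : Set G)
    · refine ih x hx fun i hi => ?_
      by_cases e : i = j
      · subst e; exact hxj
      · exact hS i fun h1 => (Finset.mem_insert.1 h1).elim e hi
    · obtain ⟨A, hA, hAj, hAl⟩ := h.ab j
      obtain ⟨a, ha, haj⟩ : ∃ a ∈ A, a ∉ centralizer (W j : Set G) := by
        by_contra hcon
        push Not at hcon
        exact hAj hcon
      have haB : a ∈ B := h.O_le_B (hA.le ha)
      have h1 : x * a ∈ centralizer (W j : Set G) := h.mul_cent j hx haB hxj haj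
      have h2 := ih (x * a) (mul_mem hx haB) fun i hi => by
        by_cases e : i = j
        · subst e; exact h1
        · exact mul_mem (hS i fun h1 => (Finset.mem_insert.1 h1).elim e hi) (hAl i e ha)
      have h3 : a * n = n * a := mem_centralizer_iff.1 (hn.2.2 A hA) a ha
      have h4 : x * n * a = n * x * a := by
        calc x * n * a = x * (a * n) := by rw [mul_assoc, h3]
          _ = n * x * a := by rw [← mul_assoc, h2]; group
      exact mul_right_cancel h4

/-- **`C(Q) ∩ Ω₁Z(J(O)) = ZJ`** -/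
theorem mem_of_Q {n : G} (hn : n ∈ LJ (o2 (centralizer (ZJ : Set G)))) (hQ : ∀ g ∈ Q, g * n = n * g) : n ∈ ZJ := by
  classical
  have := h.fin
  have := Fintype.ofFinite ι
  rw [← h.zcB, mem_zc]
  exact ⟨h.O_le_B hn.1, hn.2.1, fun b hb => h.mem_of_Q_aux hn hQ Finset.univ b hb fun i hi => (hi (Finset.mem_univ i)).elim⟩

end ZJF

end Cfsg.Agent.Omega.EDel.ZJFr
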